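import Cfsg.Agent.Lib.Coprime.Generation
import Cfsg.Agent.Lib.Coprime.External

/-!
Generation of a group by fixed points of corank-one subgroups of an abelian coprime operator group.
-/

set_option autoImplicit false

namespace Cfsg.Agent.Lib.CoprimeGen

open SemidirectProduct

universe u v

/-- The fixed points of a subgroup `B` of operators. -/
def fix {A : Type u} {K : Type v} [Group A] [Group K] (φ : A →* MulAut K) (B : Subgroup A) :
    Subgroup K where
  carrier := {k | ∀ b ∈ B, φ b k = k}
  mul_mem' := fun hx hy b hb => by rw [map_mul, hx b hb, hy b hb]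
  one_mem' := fun b _ => map_one _
  inv_mem' := fun hx b hb => by rw [map_inv, hx b hb]

theorem mem_fix {A : Type u} {K : Type v} [Group A] [Group K] {φ : A →* MulAut K} {B : Subgroup A}
    {k : K} : k ∈ fix φ B ↔ ∀ b ∈ B, φ b k = k := Iff.rfl

/-- A noncyclic abelian operator group: `K` is generated by fixed points of nontrivial elements. -/
theorem iSup_fix_zpowers {A : Type u} {K : Type v} [CommGroup A] [Group K] [Finite A] [Finite K]
    (φ : A →* MulAut K) (hcop : (Nat.card A).Coprime (Nat.card K)) (hA : ¬ IsCyclic A) :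
    ⨆ a ∈ {a : A | a ≠ 1}, fix φ (Subgroup.zpowers a) = ⊤ := by
  have := Coprime.finite_semidirect φ
  set A' := (inr : A →* K ⋊[φ] A).range with hA'
  set K' := (inl : K →* K ⋊[φ] A).range with hK'
  have : IsMulCommutative A' := ⟨⟨by
    rintro ⟨_, x, rfl⟩ ⟨_, y, rfl⟩
    exact Subtype.ext (show inr x * inr y = inr y * inr x by rw [← map_mul, mul_comm, map_mul])⟩⟩
  have hA'c : ¬ IsCyclic A' := fun h => hA
    (isCyclic_of_surjective (MonoidHom.ofInjective (inr_injective (φ := φ))).symm.toMonoidHom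
      (MulEquiv.surjective _))
  have h := Coprime.iSup_centralizer_eq hA'c (Coprime.inr_range_le_normalizer φ)
    (Coprime.coprime_ranges φ hcop)
  rw [eq_top_iff]
  intro k _
  have hk : (inl k : K ⋊[φ] A) ∈ (⨆ a ∈ {a : A | a ≠ 1}, fix φ (Subgroup.zpowers a)).map inl := by
    have hk' : (inl k : K ⋊[φ] A) ∈ K' := ⟨k, rfl⟩
    rw [hK', ← h] at hk'
    refine (iSup₂_le ?_ : _ ≤ (⨆ a ∈ {a : A | a ≠ 1}, fix φ (Subgroup.zpowers a)).map inl) hk'
    rintro _ ⟨⟨a, rfl⟩, ha⟩ x hx
    obtain ⟨⟨y, rfl⟩, hc⟩ := Subgroup.mem_inf.mp hx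
    refine Subgroup.mem_map_of_mem _ (Subgroup.mem_iSup_of_mem a (Subgroup.mem_iSup_of_mem
      (show a ∈ {a : A | a ≠ 1} from fun h => ha (by rw [h, map_one])) ?_))
    have hay : φ a y = y := by
      apply inl_injective (φ := φ)
      rw [inl_aut, (Subgroup.mem_centralizer_iff.mp hc (inr a) rfl), mul_assoc, ← map_mul,
        mul_inv_cancel, map_one, mul_one]
    intro b hb
    obtain ⟨j, rfl⟩ := Subgroup.mem_zpowers_iff.mp hb
    have : ∀ j : ℤ, (φ a) ∈ MulAction.stabilizer (MulAut K) y → (φ a) ^ j ∈ MulAction.stabilizer (MulAut K) y :=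
      fun j h => zpow_mem h j
    rw [map_zpow]
    exact this j hay
  exact (Subgroup.mem_map_iff_mem inl_injective).mp hk

/-- `K` is generated by the fixed points of subgroups with cyclic quotient. -/
theorem iSup_fix_eq_top : ∀ (n : ℕ) (A : Type u) (K : Type v) [CommGroup A] [Group K] [Finite A]
    [Finite K] (φ : A →* MulAut K), Nat.card A = n → (Nat.card A).Coprime (Nat.card K) →
    ⨆ B ∈ {B : Subgroup A | ∃ a, B ⊔ Subgroup.zpowers a = ⊤}, fix φ B = ⊤ := by
  intro n
  induction n using Nat.strong_induction_on with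
  | _ n ih =>
    intro A K _ _ _ _ φ hn hcop
    by_cases hA : IsCyclic A
    · obtain ⟨a, ha⟩ := IsCyclic.exists_generator (α := A)
      refine eq_top_iff.mpr fun k _ => Subgroup.mem_iSup_of_mem ⊥ (Subgroup.mem_iSup_of_mem
        (show (⊥ : Subgroup A) ∈ {B : Subgroup A | ∃ a, B ⊔ Subgroup.zpowers a = ⊤} from
          ⟨a, by rw [bot_sup_eq]; exact eq_top_iff.mpr fun x _ => ha x⟩) ?_)
      intro b hb
      rw [Subgroup.mem_bot.mp hb, map_one]
      rfl
    rw [eq_top_iff, ← iSup_fix_zpowers φ hcop hA]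
    refine iSup₂_le fun a ha => ?_
    set F := fix φ (Subgroup.zpowers a) with hF
    have hinv : ∀ (c : A), ∀ k ∈ F, φ c k ∈ F := fun c k hk b hb => by
      rw [← MulAut.mul_apply, ← map_mul, mul_comm b c, map_mul, MulAut.mul_apply, hk b hb]
    let ψ : A →* MulAut F :=
      { toFun := fun c =>
          { toFun := fun k => ⟨φ c k, hinv c k k.2⟩
            invFun := fun k => ⟨φ c⁻¹ k, hinv c⁻¹ k k.2⟩
            left_inv := fun k => Subtype.ext (by
              show φ c⁻¹ (φ c k) = k
              rw [← MulAut.mul_apply, ← map_mul, inv_mul_cancel, map_one]; rfl)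
            right_inv := fun k => Subtype.ext (by
              show φ c (φ c⁻¹ k) = k
              rw [← MulAut.mul_apply, ← map_mul, mul_inv_cancel, map_one]; rfl)
            map_mul' := fun x y => Subtype.ext (map_mul (φ c) (x : K) (y : K)) }
        map_one' := MulEquiv.ext fun k => Subtype.ext (by
          show φ 1 (k : K) = k
          rw [map_one]; rfl)
        map_mul' := fun c d => MulEquiv.ext fun k => Subtype.ext (by
          show φ (c * d) (k : K) = φ c (φ d k)
          rw [map_mul]; rfl) }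
    have hψ : Subgroup.zpowers a ≤ ψ.ker := fun b hb =>
      MulEquiv.ext fun k => Subtype.ext (k.2 b hb)
    let ψ' := QuotientGroup.lift (Subgroup.zpowers a) ψ hψ
    have hlt : Nat.card (A ⧸ Subgroup.zpowers a) < n := by
      rw [← hn, Subgroup.card_eq_card_quotient_mul_card_subgroup (Subgroup.zpowers a)]
      refine lt_mul_of_one_lt_right Nat.card_pos ?_
      rw [Nat.card_zpowers]
      have := orderOf_pos a
      have : orderOf a ≠ 1 := fun h => ha (orderOf_eq_one_iff.mp h)
      omega
    have h2 := ih _ hlt (A ⧸ Subgroup.zpowers a) F ψ' rfl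
      (hcop.of_dvd (Subgroup.card_quotient_dvd_card _) (Subgroup.card_subgroup_dvd_card F))
    intro k hk
    have h3 : (⟨k, hk⟩ : F) ∈
        (⨆ B ∈ {B : Subgroup A | ∃ a, B ⊔ Subgroup.zpowers a = ⊤}, fix φ B).comap F.subtype := by
      refine (?_ : (⊤ : Subgroup F) ≤ _) (Subgroup.mem_top _)
      rw [← h2]
      refine iSup₂_le fun B' hB' x hx => ?_
      obtain ⟨c', hc'⟩ := hB'
      obtain ⟨c, rfl⟩ := QuotientGroup.mk'_surjective (Subgroup.zpowers a) c'
      have hB2 : B'.comap (QuotientGroup.mk' (Subgroup.zpowers a)) ⊔ Subgroup.zpowers c = ⊤ := by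
        refine eq_top_iff.mpr fun y _ => ?_
        have hy : QuotientGroup.mk' (Subgroup.zpowers a) y ∈
            B' ⊔ Subgroup.zpowers (QuotientGroup.mk' (Subgroup.zpowers a) c) := hc'.symm ▸ Subgroup.mem_top _
        obtain ⟨b', hb', z, hz, hyz⟩ := Subgroup.mem_sup.mp hy
        obtain ⟨j, rfl⟩ := Subgroup.mem_zpowers_iff.mp hz
        have hmem : y * (c ^ j)⁻¹ ∈ B'.comap (QuotientGroup.mk' (Subgroup.zpowers a)) := by
          rw [Subgroup.mem_comap, map_mul, map_inv, map_zpow, ← hyz, mul_inv_cancel_right]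
          exact hb'
        have := mul_mem (Subgroup.mem_sup_left hmem)
          (Subgroup.mem_sup_right (Subgroup.zpow_mem _ (Subgroup.mem_zpowers c) j) :
            c ^ j ∈ B'.comap (QuotientGroup.mk' (Subgroup.zpowers a)) ⊔ Subgroup.zpowers c)
        rwa [inv_mul_cancel_right] at this
      refine Subgroup.mem_iSup_of_mem (B'.comap (QuotientGroup.mk' (Subgroup.zpowers a)))
        (Subgroup.mem_iSup_of_mem (show _ ∈ {B : Subgroup A | ∃ a, B ⊔ Subgroup.zpowers a = ⊤} from
          ⟨c, hB2⟩) ?_)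
      intro b hb
      exact congrArg Subtype.val (hx (QuotientGroup.mk' _ b) hb)
    exact h3

end Cfsg.Agent.Lib.CoprimeGen
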