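import Cfsg.Agent.Lib.CoprimeGen.InvolutionValues

/-!
# A four-group acting on a group of odd order

If compatible homomorphisms to `Q` are given on the fixed points of the three involutions, every
irreducible character of `Q` comes from a character of the whole group whose kernel contains
the commutators with the four-group. No solvability is assumed.
-/

set_option autoImplicit false
set_option linter.unusedSectionVars false
set_option linter.style.haveILetI false

namespace Cfsg.Agent.Lib.CoprimeGen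

open Cfsg Cfsg.Agent.Lib.Blocks Cfsg.Agent.Lib.Characters Cfsg.Agent.Lib.Glauberman
open Cfsg.Agent.Lib.BrauerPairs (transIrr transIrr_apply)
open scoped ComplexConjugate

universe u

variable {Γ : Type u} [Group Γ]

/-- Data of a four-group complementing a normal subgroup of odd order. -/
structure Four (N : Subgroup Γ) where
  x : Γ
  y : Γ
  xx : x * x = 1
  yy : y * y = 1
  xy : x * y = y * x
  xN : x ∉ N
  yN : y ∉ N
  zN : x * y ∉ N
  cover : ∀ g : Γ, g ∈ N ∨ x * g ∈ N ∨ y * g ∈ N ∨ x * y * g ∈ N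

variable {N : Subgroup Γ} (D : Four N)

namespace Four

theorem zz : (D.x * D.y) * (D.x * D.y) = 1 := by
  calc (D.x * D.y) * (D.x * D.y) = D.x * (D.y * D.x) * D.y := by group
    _ = (D.x * D.x) * (D.y * D.y) := by rw [← D.xy]; group
    _ = 1 := by rw [D.xx, D.yy, one_mul]

/-- The four-group itself. -/
def S : Subgroup Γ :=
  Subgroup.closure ({D.x, D.y} : Set Γ)

theorem x_mem : D.x ∈ D.S := Subgroup.subset_closure (by simp)
theorem y_mem : D.y ∈ D.S := Subgroup.subset_closure (by simp)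

theorem xi : D.x⁻¹ = D.x := inv_eq_of_mul_eq_one_right D.xx
theorem yi : D.y⁻¹ = D.y := inv_eq_of_mul_eq_one_right D.yy

theorem mem_iff {s : Γ} : s ∈ D.S ↔ s = 1 ∨ s = D.x ∨ s = D.y ∨ s = D.x * D.y := by
  have x1 : ∀ w : Γ, D.x * (D.x * w) = w := fun w => by rw [← mul_assoc, D.xx, one_mul]
  have y1 : ∀ w : Γ, D.y * (D.y * w) = w := fun w => by rw [← mul_assoc, D.yy, one_mul]
  have yx : ∀ w : Γ, D.y * (D.x * w) = D.x * (D.y * w) := fun w => by
    rw [← mul_assoc, ← D.xy, mul_assoc]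
  constructor
  · intro hs
    induction hs using Subgroup.closure_induction with
    | mem w hw => rcases hw with rfl | rfl <;> simp
    | one => simp
    | mul u v _ _ hu hv =>
      rcases hu with rfl | rfl | rfl | rfl <;> rcases hv with rfl | rfl | rfl | rfl <;>
        simp [mul_assoc, D.xx, D.yy, ← D.xy, x1, y1, yx]
    | inv u _ hu =>
      rcases hu with rfl | rfl | rfl | rfl <;> simp [mul_inv_rev, D.xi, D.yi, ← D.xy]
  · rintro (rfl | rfl | rfl | rfl)
    exacts [one_mem _, D.x_mem, D.y_mem, mul_mem D.x_mem D.y_mem]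

theorem comm {s t : Γ} (hs : s ∈ D.S) (ht : t ∈ D.S) : s * t = t * s := by
  have x1 : ∀ w : Γ, D.x * (D.x * w) = w := fun w => by rw [← mul_assoc, D.xx, one_mul]
  have y1 : ∀ w : Γ, D.y * (D.y * w) = w := fun w => by rw [← mul_assoc, D.yy, one_mul]
  have yx : ∀ w : Γ, D.y * (D.x * w) = D.x * (D.y * w) := fun w => by
    rw [← mul_assoc, ← D.xy, mul_assoc]
  rcases D.mem_iff.1 hs with rfl | rfl | rfl | rfl <;>
    rcases D.mem_iff.1 ht with rfl | rfl | rfl | rfl <;>
    simp [mul_assoc, D.xx, D.yy, ← D.xy, x1, y1, yx]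

theorem isPGroup : IsPGroup 2 D.S := by
  intro s
  refine ⟨1, Subtype.ext ?_⟩
  push_cast
  rw [pow_two]
  rcases D.mem_iff.1 s.2 with h | h | h | h <;> rw [h]
  exacts [one_mul 1, D.xx, D.yy, D.zz]

/-- The common fixed points. -/
abbrev C : Subgroup Γ := N ⊓ Subgroup.centralizer (D.S : Set Γ)

theorem C_le {a : Γ} (ha : a ∈ D.S) : D.C ≤ fixN N a :=
  le_inf inf_le_left (inf_le_right.trans (Subgroup.centralizer_le (by simpa using ha)))

theorem comm_C {a : Γ} (ha : a ∈ D.S) (c : D.C) : a * (c : Γ) = c * a :=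
  Subgroup.mem_centralizer_iff.1 c.2.2 a ha

theorem comm_fixN {a : Γ} (m : fixN N a) : (m : Γ) * a = a * m :=
  Subgroup.mem_centralizer_singleton_iff.1 m.2.2

theorem S_norm_fixN [N.Normal] {a : Γ} (ha : a ∈ D.S) :
    ∀ s ∈ D.S, ∀ g ∈ fixN N a, s * g * s⁻¹ ∈ fixN N a := by
  intro s hs g hg
  refine ⟨Subgroup.Normal.conj_mem ‹_› g hg.1 s, Subgroup.mem_centralizer_singleton_iff.2 ?_⟩
  have h1 := D.comm hs ha
  have h3 : s⁻¹ * a = a * s⁻¹ := D.comm (inv_mem hs) ha
  have h2 : g * a = a * g := Subgroup.mem_centralizer_singleton_iff.1 hg.2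
  calc s * g * s⁻¹ * a = s * (g * a) * s⁻¹ := by rw [mul_assoc, h3]; group
    _ = (s * a) * g * s⁻¹ := by rw [h2]; group
    _ = a * (s * g * s⁻¹) := by rw [h1]; group

end Four

variable [Finite Γ] [hN : N.Normal] (hodd : Odd (Nat.card N))

theorem odd_of_le {H K : Subgroup Γ} (h : H ≤ K) (hK : Odd (Nat.card K)) : Odd (Nat.card H) :=
  hK.of_dvd_nat (Subgroup.card_dvd_of_le h)

/-- Multiplicities of `h ↦ χ (a h)` are integers congruent to those of `χ`. -/
theorem exists_parity {χ : Γ → ℂ} (hχ : IsCharacter Γ χ) {a : Γ} (ha : a * a = 1) (ha1 : a ≠ 1)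
    (H : Subgroup Γ) (hH : ∀ h ∈ H, h * a = a * h) [Fintype H] (γ : IrrCharacter H) :
    ∃ n m : ℕ, classInner (fun h : H => χ h) (γ : H → ℂ) = (m : ℂ) ∧
      classInner (fun h : H => χ (a * h)) (γ : H → ℂ) = ((2 * (n : ℤ) - m : ℤ) : ℂ) := by
  classical
  have hcomm : ∀ (h : H) (e : Subgroup.zpowers a), Commute (h : Γ) (e : Γ) := fun h e => by
    obtain ⟨i, hi⟩ := Subgroup.mem_zpowers_iff.1 e.2
    rw [← hi]
    exact Commute.zpow_right (hH h h.2) i
  let P : H × Subgroup.zpowers a →* Γ :=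
    MonoidHom.noncommCoprod H.subtype (Subgroup.zpowers a).subtype hcomm
  haveI : Fintype (Subgroup.zpowers a) := Fintype.ofFinite _
  obtain ⟨n, hn⟩ := IsCharacter.exists_classInner_nat (IsCharacter.comp hχ P)
    (IsCharacter.comp (irr_isCharacter γ) (MonoidHom.fst H (Subgroup.zpowers a)))
  obtain ⟨m, hm⟩ := IsCharacter.exists_classInner_nat (IsCharacter.restrict hχ H)
    (irr_isCharacter γ)
  refine ⟨n, m, hm, ?_⟩
  have h2 : Nat.card (Subgroup.zpowers a) = 2 := by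
    rw [Nat.card_zpowers]
    exact orderOf_eq_prime (by rw [pow_two, ha]) ha1
  have hne : (1 : Subgroup.zpowers a) ≠ ⟨a, Subgroup.mem_zpowers a⟩ := fun e =>
    ha1 (congrArg Subtype.val e).symm
  have huniv : (Finset.univ : Finset (Subgroup.zpowers a)) =
      {1, ⟨a, Subgroup.mem_zpowers a⟩} := by
    refine (Finset.eq_univ_of_card _ ?_).symm
    rw [Finset.card_pair hne, ← h2, Nat.card_eq_fintype_card]
  have key : ∀ h : H, ∑ e : Subgroup.zpowers a,
      (χ ∘ P) (h, e) * conj (((γ : H → ℂ) ∘ MonoidHom.fst H (Subgroup.zpowers a)) (h, e)) =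
      χ h * conj ((γ : H → ℂ) h) + χ (a * h) * conj ((γ : H → ℂ) h) := fun h => by
    rw [huniv, Finset.sum_pair hne]
    show χ ((h : Γ) * ((1 : Subgroup.zpowers a) : Γ)) * conj ((γ : H → ℂ) h) +
      χ ((h : Γ) * a) * conj ((γ : H → ℂ) h) = _
    rw [OneMemClass.coe_one, mul_one, hH h h.2]
  rw [classInner, Fintype.sum_prod_type, Finset.sum_congr rfl fun h _ => key h,
    Finset.sum_add_distrib, Nat.card_prod, h2] at hn
  have hm' : (Nat.card H : ℂ)⁻¹ * ∑ h : H, χ h * conj ((γ : H → ℂ) h) = (m : ℂ) := hm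
  rw [classInner]
  push_cast at hn ⊢
  rw [mul_inv] at hn
  linear_combination 2 * hn - hm'

/-- A combination of irreducible characters with integral coefficients and norm one. -/
theorem exists_of_norm_one {H : Type u} [Group H] [Fintype H] {f : H → ℂ}
    (hf : IsClassFunction H f) (hint : ∀ γ : IrrCharacter H, ∃ k : ℤ, classInner f (γ : H → ℂ) = k)
    (h1 : classInner f f = 1) :
    ∃ (ν : IrrCharacter H) (ε : ℤ), (ε = 1 ∨ ε = -1) ∧ ∀ h, f h = ε * (ν : H → ℂ) h := by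
  classical
  haveI := Fintype.ofFinite (IrrCharacter H)
  choose k hk using hint
  have hs : ∑ γ, k γ * k γ = 1 := by
    have h := classInner_eq_sum_irr hf hf
    rw [h1] at h
    simp only [hk, map_intCast] at h
    exact_mod_cast h.symm
  obtain ⟨ν, -, hν⟩ := Finset.exists_ne_zero_of_sum_ne_zero (by rw [hs]; exact one_ne_zero)
  have h0 : ∀ γ ∈ Finset.univ.erase ν, k γ * k γ = 0 := by
    have h2 := Finset.add_sum_erase Finset.univ (fun γ => k γ * k γ) (Finset.mem_univ ν)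
    rw [hs] at h2
    have h3 : (0 : ℤ) ≤ ∑ γ ∈ Finset.univ.erase ν, k γ * k γ :=
      Finset.sum_nonneg fun γ _ => mul_self_nonneg _
    have h4 : (1 : ℤ) ≤ k ν * k ν := lt_of_le_of_ne (mul_self_nonneg _) (Ne.symm hν)
    exact (Finset.sum_eq_zero_iff_of_nonneg fun γ _ => mul_self_nonneg _).1
      (le_antisymm (by linarith) h3)
  have hν1 : k ν * k ν = 1 := by
    have h2 := Finset.add_sum_erase Finset.univ (fun γ => k γ * k γ) (Finset.mem_univ ν)
    rw [hs, Finset.sum_eq_zero h0, add_zero] at h2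
    exact h2
  refine ⟨ν, k ν, mul_self_eq_one_iff.1 hν1, fun h => ?_⟩
  conv_lhs => rw [eq_sum_classInner hf]
  rw [Finset.sum_apply, Finset.sum_eq_single ν]
  · simp [hk]
  · intro γ _ hγ
    have := h0 γ (Finset.mem_erase.2 ⟨hγ, Finset.mem_univ _⟩)
    simp [hk, mul_self_eq_zero.1 this]
  · simp

/-- A character with a constituent of the same degree equals it. -/
theorem eq_of_constituent {H : Type u} [Group H] [Fintype H] {φ : H → ℂ} (hφ : IsCharacter H φ)
    (μ : IrrCharacter H) (hne : classInner φ (μ : H → ℂ) ≠ 0) (h1 : φ 1 = (μ : H → ℂ) 1) :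
    φ = (μ : H → ℂ) := by
  classical
  haveI := Fintype.ofFinite (IrrCharacter H)
  obtain ⟨m, hm, hm'⟩ := IsCharacter.exists_nat_decomp hφ
  choose d hd0 hd using fun γ : IrrCharacter H => IsIrrCharacter.exists_apply_one γ.2
  have hμ : 1 ≤ m μ := by
    by_contra h
    exact hne (by rw [hm' μ, show m μ = 0 by omega, Nat.cast_zero])
  have hsum : ∑ γ, m γ * d γ = d μ := by
    have h := congrFun hm 1
    rw [h1, Finset.sum_apply, hd μ] at h
    simp only [Pi.smul_apply, smul_eq_mul, hd] at h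
    exact_mod_cast h.symm
  rw [← Finset.add_sum_erase _ _ (Finset.mem_univ μ)] at hsum
  have hle : d μ ≤ m μ * d μ := Nat.le_mul_of_pos_left _ hμ
  have hz : ∑ γ ∈ Finset.univ.erase μ, m γ * d γ = 0 := by omega
  have hμ1 : m μ = 1 := by
    have h : m μ * d μ = d μ := by omega
    exact Nat.eq_of_mul_eq_mul_right (hd0 μ) (by rw [h, one_mul])
  rw [hm]
  funext h
  rw [Finset.sum_apply, Finset.sum_eq_single μ]
  · simp [hμ1]
  · intro γ hγu hγ
    have := Finset.sum_eq_zero_iff.1 hz γ (Finset.mem_erase.2 ⟨hγ, hγu⟩)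
    rcases Nat.mul_eq_zero.1 this with h0 | h0
    · simp [h0]
    · exact absurd h0 (hd0 γ).ne'
  · simp

/-- Elements with equal values of maximal absolute value differ by a kernel element. -/
theorem inv_mul_mem_kernel {χ : Γ → ℂ} (hχ : IsCharacter Γ χ) {p q : Γ} (h : χ p = χ q)
    (hn : ‖χ p‖ = ‖χ 1‖) : χ (p⁻¹ * q) = χ 1 := by
  obtain ⟨n, ρ, rfl⟩ := hχ
  have hfin : ‖ρ.character 1‖ = (Module.finrank ℂ (Fin n → ℂ) : ℝ) := by
    rw [ρ.char_one, Complex.norm_natCast]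
  obtain ⟨ω, hω⟩ := (norm_char_eq_iff ρ p).1 (hn.trans hfin)
  obtain ⟨ω', hω'⟩ := (norm_char_eq_iff ρ q).1 ((h ▸ hn).trans hfin)
  have hq : ρ q = ρ p := by
    rcases subsingleton_or_nontrivial (Fin n → ℂ) with hV | hV
    · exact LinearMap.ext fun v => Subsingleton.elim _ _
    · have e : ω * (Module.finrank ℂ (Fin n → ℂ) : ℂ) =
          ω' * (Module.finrank ℂ (Fin n → ℂ) : ℂ) := by
        have := h
        simpa [Representation.character, hω, hω'] using this
      rw [hω, hω', mul_right_cancel₀ (by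
        exact_mod_cast (Module.finrank_pos (R := ℂ) (M := Fin n → ℂ)).ne') e]
  show LinearMap.trace ℂ _ (ρ (p⁻¹ * q)) = LinearMap.trace ℂ _ (ρ 1)
  rw [map_mul, hq, ← map_mul, inv_mul_cancel]

variable {Q : Type u} [Group Q] [Finite Q]

/-- The values on one coset. -/
theorem coset_value (χ : IrrCharacter Γ) {a : Γ} (ha : a ∈ D.S) (ha2 : a * a = 1) (ha1 : a ≠ 1)
    [Fintype D.C] (μ : IrrCharacter D.C) {m : ℕ} (hm : Odd m)
    (hμ : classInner (fun c : D.C => (χ : Γ → ℂ) c) (μ : D.C → ℂ) = (m : ℂ))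
    [Fintype (fixN N a)] :
    (∃ k : ℕ, 1 ≤ k ∧ classInner (fun h : fixN N a => (χ : Γ → ℂ) (a * h))
      (fun h : fixN N a => (χ : Γ → ℂ) (a * h)) = (k : ℂ)) ∧
    (classInner (fun h : fixN N a => (χ : Γ → ℂ) (a * h))
      (fun h : fixN N a => (χ : Γ → ℂ) (a * h)) = 1 → ∀ (hodd : Odd (Nat.card N))
      (ν : IrrCharacter (fixN N a)), (∀ s ∈ D.S, ∀ g g' : fixN N a, (g' : Γ) = s * g * s⁻¹ →
        (ν : fixN N a → ℂ) g' = (ν : fixN N a → ℂ) g) →
      (∀ c : D.C, (ν : fixN N a → ℂ) ⟨c, D.C_le ha c.2⟩ = (μ : D.C → ℂ) c) →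
      ∃ ε : ℂ, (ε = 1 ∨ ε = -1) ∧
        ∀ h : fixN N a, (χ : Γ → ℂ) (a * h) = ε * (ν : fixN N a → ℂ) h) := by
  classical
  set f := fun h : fixN N a => (χ : Γ → ℂ) (a * h) with hf
  have hχc := irr_isCharacter χ
  have hfcl : IsClassFunction (fixN N a) f := fun g h => by
    show (χ : Γ → ℂ) (a * ((h : Γ) * g * (h : Γ)⁻¹)) = (χ : Γ → ℂ) (a * g)
    rw [show a * ((h : Γ) * g * (h : Γ)⁻¹) = (a * (h : Γ)) * g * (h : Γ)⁻¹ by group,
      ← Four.comm_fixN h, show (h : Γ) * a * g * (h : Γ)⁻¹ = (h : Γ) * (a * g) * (h : Γ)⁻¹ by group,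
      IsCharacter.conj_apply hχc]
  have hint : ∀ γ : IrrCharacter (fixN N a), ∃ k : ℤ, classInner f (γ : fixN N a → ℂ) = k :=
    fun γ => by
      obtain ⟨n, m', -, h⟩ := exists_parity hχc ha2 ha1 (fixN N a)
        (fun h hh => Four.comm_fixN ⟨h, hh⟩) γ
      exact ⟨_, h⟩
  obtain ⟨n, m', hm', hk⟩ := exists_parity hχc ha2 ha1 D.C
    (fun c hc => (D.comm_C ha ⟨c, hc⟩).symm) μ
  obtain rfl : m' = m := by exact_mod_cast hm'.symm.trans hμ
  have hne : f ≠ 0 := by
    intro h0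
    have : (fun c : D.C => (χ : Γ → ℂ) (a * c)) = 0 := funext fun c =>
      congrFun h0 ⟨c, D.C_le ha c.2⟩
    rw [this] at hk
    have h2 : classInner (0 : D.C → ℂ) (μ : D.C → ℂ) = 0 := by simp [classInner]
    rw [h2] at hk
    have h3 : (2 * (n : ℤ) - m' : ℤ) = 0 := by exact_mod_cast hk.symm
    obtain ⟨j, hj⟩ := hm
    omega
  refine ⟨?_, fun h1 hodd ν₀ hinv hres => ?_⟩
  · haveI := Fintype.ofFinite (IrrCharacter (fixN N a))
    choose k hk' using hint
    have hs : classInner f f = ((∑ γ, k γ * k γ : ℤ) : ℂ) := by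
      rw [classInner_eq_sum_irr hfcl hfcl]
      simp only [hk', map_intCast]
      push_cast
      rfl
    refine ⟨(∑ γ, k γ * k γ).toNat, ?_, ?_⟩
    · by_contra hlt
      have h0 : ∑ γ, k γ * k γ = 0 := le_antisymm (by omega)
        (Finset.sum_nonneg fun γ _ => mul_self_nonneg _)
      rw [h0, Int.cast_zero] at hs
      exact hne (classInner_self_eq_zero hs)
    · rw [hs, ← Int.cast_natCast, Int.toNat_of_nonneg (Finset.sum_nonneg fun γ _ => mul_self_nonneg _)]
  · obtain ⟨ν, ε, hε, hfν⟩ := exists_of_norm_one hfcl hint h1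
    have hnorm := D.S_norm_fixN ha
    set φ := conjHom (fixN N a) D.S hnorm
    haveI : Fintype (fixedSub φ) := Fintype.ofFinite _
    have hC : ∀ c, c ∈ D.C ↔ c ∈ fixN N a ∧ ∀ s ∈ D.S, s * c * s⁻¹ = c := by
      intro c
      constructor
      · intro hc
        exact ⟨D.C_le ha hc, fun s hs => by
          rw [D.comm_C hs ⟨c, hc⟩]; group⟩
      · rintro ⟨h, h'⟩
        exact ⟨h.1, Subgroup.mem_centralizer_iff.2 fun s hs => mul_inv_eq_iff_eq_mul.1 (h' s hs)⟩
    set β := transIrr (fixedEquiv hnorm hC) μ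
    have hp : IsPGroup 2 D.S := D.isPGroup
    have hd : ¬ 2 ∣ Nat.card (fixN N a) := fun hh =>
      Nat.not_even_iff_odd.2 (odd_of_le inf_le_left hodd) (even_iff_two_dvd.2 hh)
    have hε0 : (ε : ℂ) ≠ 0 := by
      rcases hε with rfl | rfl <;> norm_num
    have hνinv : IsInv φ (ν : fixN N a → ℂ) := by
      intro s g
      refine mul_left_cancel₀ hε0 ?_
      rw [← hfν, ← hfν]
      show (χ : Γ → ℂ) (a * ((s : Γ) * g * (s : Γ)⁻¹)) = (χ : Γ → ℂ) (a * g)
      rw [show a * ((s : Γ) * g * (s : Γ)⁻¹) = (a * s) * g * (s : Γ)⁻¹ by group,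
        D.comm ha s.2, show (s : Γ) * a * g * (s : Γ)⁻¹ = (s : Γ) * (a * g) * (s : Γ)⁻¹ by group,
        IsCharacter.conj_apply hχc]
    have hν₀inv : IsInv φ (ν₀ : fixN N a → ℂ) := (isInv_conjHom_iff hnorm _).2 hinv
    have h2 : classInner (fun c : D.C => (χ : Γ → ℂ) (a * c)) (μ : D.C → ℂ) =
        (ε : ℂ) * classInner (fun c : D.C => (ν : fixN N a → ℂ) ⟨c, D.C_le ha c.2⟩)
          (μ : D.C → ℂ) := by
      simp only [classInner, Finset.mul_sum]
      refine Finset.sum_congr rfl fun c _ => ?_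
      rw [show (χ : Γ → ℂ) (a * c) = _ from hfν ⟨c, D.C_le ha c.2⟩]
      ring
    rw [classInner_fixedEquiv hnorm hC (D.C_le ha) (ν : fixN N a → ℂ) μ, classInner_eq_mult] at h2
    rw [hk] at h2
    have hνm : ¬ 2 ∣ mult φ ν β := by
      intro hh
      have h3 : (2 * (n : ℤ) - m') = ε * (mult φ ν β : ℤ) := by exact_mod_cast h2
      obtain ⟨j, hj⟩ := hm
      obtain ⟨i, hi⟩ := hh
      rcases hε with rfl | rfl <;> omega
    have hν₀m : ¬ 2 ∣ mult φ ν₀ β := by
      have h4 : classInner (fun c : D.C => (ν₀ : fixN N a → ℂ) ⟨c, D.C_le ha c.2⟩) (μ : D.C → ℂ) =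
          1 := by
        simp only [hres]
        exact IsIrrCharacter.classInner_self μ.2
      rw [classInner_fixedEquiv hnorm hC (D.C_le ha) (ν₀ : fixN N a → ℂ) μ, classInner_eq_mult] at h4
      have : mult φ ν₀ β = 1 := by exact_mod_cast h4
      rw [this]
      decide
    obtain ⟨π, hπ, -⟩ := exists_glauberman (p := 2) φ hp hd
    have e1 := (hπ ⟨ν, hνinv⟩ β).1 hνm
    have e2 := (hπ ⟨ν₀, hν₀inv⟩ β).1 hν₀m
    have e3 : ν = ν₀ := congrArg Subtype.val (π.injective (e1.trans e2.symm))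
    refine ⟨(ε : ℂ), ?_, fun h => e3 ▸ hfν h⟩
    rcases hε with rfl | rfl <;> simp

include hodd

set_option maxHeartbeats 2000000

/-- The main statement. -/
theorem exists_char (l : IrrCharacter Q) (π0 : D.C →* Q) (hsurj : Function.Surjective π0)
    (π : ∀ a : Γ, fixN N a →* Q)
    (hres : ∀ a ∈ D.S, a ≠ 1 → ∀ (c : D.C) (m : fixN N a), (m : Γ) = c → π a m = π0 c)
    (hinv : ∀ a ∈ D.S, a ≠ 1 → ∀ s ∈ D.S, ∀ g g' : fixN N a, (g' : Γ) = s * g * s⁻¹ →
      π a g' = π a g) :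
    ∃ χ : Γ → ℂ, IsCharacter Γ χ ∧ χ 1 = (l : Q → ℂ) 1 ∧
      (∀ c : D.C, χ c = (l : Q → ℂ) (π0 c)) ∧
      ∀ g ∈ N, ∀ e ∈ D.S, χ (g * e * g⁻¹ * e⁻¹) = χ 1 := by
  classical
  haveI : Fintype Γ := Fintype.ofFinite Γ
  haveI : Fintype N := Fintype.ofFinite N
  haveI : Fintype D.C := Fintype.ofFinite _
  have hSN : ∀ s ∈ D.S, ∀ g ∈ N, s * g * s⁻¹ ∈ N := fun s _ g hg => hN.conj_mem g hg s
  set φ := conjHom N D.S hSN
  haveI : Fintype (fixedSub φ) := Fintype.ofFinite _
  have hC : ∀ c, c ∈ D.C ↔ c ∈ N ∧ ∀ s ∈ D.S, s * c * s⁻¹ = c := fun c =>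
    inf_centralizer_spec (G := N) (S := D.S) c
  let μ : IrrCharacter D.C := ⟨_, IsIrrCharacter.comp_surjective l.2 π0 hsurj⟩
  set β := transIrr (fixedEquiv hSN hC) μ
  have hd : ¬ 2 ∣ Nat.card N := fun hh =>
    Nat.not_even_iff_odd.2 hodd (even_iff_two_dvd.2 hh)
  obtain ⟨Φ, hΦ, -⟩ := exists_glauberman (p := 2) φ D.isPGroup hd
  obtain ⟨⟨θ, hθi⟩, hθ⟩ := Φ.surjective β
  have hθm := (hΦ ⟨θ, hθi⟩ β).2 hθ
  dsimp only at hθm
  have hidx : N.index ∣ 4 ∧ 0 < N.index := by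
    refine ⟨?_, Nat.pos_of_ne_zero Subgroup.index_ne_zero_of_finite⟩
    have hsup : N ⊔ D.S = ⊤ := by
      rw [eq_top_iff]
      intro g _
      have hx : D.x ∈ N ⊔ D.S := Subgroup.mem_sup_right D.x_mem
      have hy : D.y ∈ N ⊔ D.S := Subgroup.mem_sup_right D.y_mem
      rcases D.cover g with h | h | h | h
      · exact Subgroup.mem_sup_left h
      · exact (Subgroup.mul_mem_cancel_left _ hx).1 (Subgroup.mem_sup_left h)
      · exact (Subgroup.mul_mem_cancel_left _ hy).1 (Subgroup.mem_sup_left h)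
      · exact (Subgroup.mul_mem_cancel_left _ (mul_mem hx hy)).1 (Subgroup.mem_sup_left h)
    have h1 : N.index ∣ Nat.card D.S := by
      rw [← Subgroup.relIndex_top_right, ← hsup, Subgroup.relIndex_sup_left]
      exact Subgroup.relIndex_dvd_card _ _
    refine h1.trans ?_
    have h4 : Nat.card D.S ≤ 4 := by
      have hsub : (D.S : Set Γ) ⊆ ({1, D.x, D.y, D.x * D.y} : Finset Γ) := fun s hs => by
        simpa using D.mem_iff.1 hs
      calc Nat.card D.S = Set.ncard (D.S : Set Γ) := rfl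
        _ ≤ _ := Set.ncard_le_ncard hsub
        _ ≤ 4 := by rw [Set.ncard_coe_finset]; exact Finset.card_le_four
    obtain ⟨k, hk⟩ := D.isPGroup.exists_card_eq
    rw [hk] at h4 ⊢
    have : k ≤ 2 := by
      by_contra hh
      have := Nat.pow_le_pow_right (show 1 ≤ 2 by norm_num) (show 3 ≤ k by omega)
      omega
    exact Nat.pow_dvd_pow 2 this
  have hcop : (Nat.card N).Coprime N.index :=
    (Nat.Coprime.pow_right 2 (Nat.coprime_two_right.2 hodd)).coprime_dvd_right hidx.1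
  have hθG : ∀ g : Γ, conjFun N g (θ : N → ℂ) = (θ : N → ℂ) := by
    intro g
    funext n
    have hs : ∃ s ∈ D.S, ∃ k ∈ N, g = s * k := by
      rcases D.cover g with h | h | h | h
      · exact ⟨1, one_mem _, g, h, (one_mul g).symm⟩
      · exact ⟨D.x, D.x_mem, _, h, by rw [← mul_assoc, D.xx, one_mul]⟩
      · exact ⟨D.y, D.y_mem, _, h, by rw [← mul_assoc, D.yy, one_mul]⟩
      · exact ⟨D.x * D.y, mul_mem D.x_mem D.y_mem, _, h, by rw [← mul_assoc, D.zz, one_mul]⟩
    obtain ⟨s, hs, k, hk, rfl⟩ := hs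
    have h1 := (isInv_conjHom_iff hSN _).1 hθi
    have e1 : ∀ n : N, (θ : N → ℂ) ⟨s * k * n * (s * k)⁻¹, hN.conj_mem _ n.2 _⟩ =
        (θ : N → ℂ) n := fun n => by
      rw [h1 s hs (⟨k, hk⟩ * n * ⟨k, hk⟩⁻¹) _ (by push_cast; group),
        IsCharacter.conj_apply (irr_isCharacter θ)]
    exact e1 n
  obtain ⟨χ, hχN⟩ := exists_extension_of_coprime N hcop θ hθG
  have hχc := irr_isCharacter χ
  set L := (l : Q → ℂ) 1 with hL
  obtain ⟨L', hL'0, hL'⟩ := IsIrrCharacter.exists_apply_one l.2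
  set mm := mult φ θ β
  have hμm : classInner (fun c : D.C => (χ : Γ → ℂ) c) (μ : D.C → ℂ) = (mm : ℂ) := by
    rw [← classInner_eq_mult φ θ β, ← classInner_fixedEquiv hSN hC inf_le_left (θ : N → ℂ) μ]
    simp only [← hχN]
  have hmodd : Odd mm := Nat.not_even_iff_odd.1 fun h => hθm (even_iff_two_dvd.1 h)
  have hx1 : D.x ≠ 1 := fun h => D.xN (h ▸ N.one_mem)
  have hy1 : D.y ≠ 1 := fun h => D.yN (h ▸ N.one_mem)
  have hz1 : D.x * D.y ≠ 1 := fun h => D.zN (h ▸ N.one_mem)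
  haveI : ∀ a : Γ, Fintype (fixN N a) := fun a => Fintype.ofFinite _
  set z := D.x * D.y with hz
  have hzS : z ∈ D.S := mul_mem D.x_mem D.y_mem
  obtain ⟨⟨kx, hkx, hnx⟩, valx⟩ := coset_value D χ D.x_mem D.xx hx1 μ hmodd hμm
  obtain ⟨⟨ky, hky, hny⟩, valy⟩ := coset_value D χ D.y_mem D.yy hy1 μ hmodd hμm
  obtain ⟨⟨kz, hkz, hnz⟩, valz⟩ := coset_value D χ hzS D.zz hz1 μ hmodd hμm
  -- the sum over the four cosets
  have hsum4 : kx + ky + kz = 3 := by
    let cs : Fin 4 → Γ := ![1, D.x, D.y, z]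
    have hbij : Function.Bijective (fun p : Fin 4 × N => cs p.1 * (p.2 : Γ)) := by
      constructor
      · rintro ⟨i, n⟩ ⟨j, n'⟩ h
        have h' : cs i * (n : Γ) = cs j * (n' : Γ) := h
        have hij : (cs j)⁻¹ * cs i ∈ N := by
          have : (cs j)⁻¹ * cs i = (n' : Γ) * (n : Γ)⁻¹ := by
            calc (cs j)⁻¹ * cs i = (cs j)⁻¹ * (cs i * n) * (n : Γ)⁻¹ := by group
              _ = _ := by rw [h']; group
          rw [this]
          exact N.mul_mem n'.2 (N.inv_mem n.2)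
        have hi : i = j := by
          have x1 : ∀ w : Γ, D.x * (D.x * w) = w := fun w => by rw [← mul_assoc, D.xx, one_mul]
          have y1 : ∀ w : Γ, D.y * (D.y * w) = w := fun w => by rw [← mul_assoc, D.yy, one_mul]
          have yx : ∀ w : Γ, D.y * (D.x * w) = D.x * (D.y * w) := fun w => by
            rw [← mul_assoc, ← D.xy, mul_assoc]
          fin_cases i <;> fin_cases j <;>
            simp [cs, hz, D.xN, D.yN, D.zN, D.xi, D.yi, mul_assoc, D.xx, D.yy, ← D.xy, x1, y1,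
              yx] at hij ⊢
        subst hi
        rw [Subtype.ext (mul_left_cancel h')]
      · intro g
        rcases D.cover g with h | h | h | h
        · exact ⟨(0, ⟨g, h⟩), by simp [cs]⟩
        · exact ⟨(1, ⟨_, h⟩), by simp [cs, ← mul_assoc, D.xx]⟩
        · exact ⟨(2, ⟨_, h⟩), by simp [cs, ← mul_assoc, D.yy]⟩
        · refine ⟨(3, ⟨_, h⟩), ?_⟩
          show z * (D.x * D.y * g) = g
          rw [← mul_assoc, hz, D.zz, one_mul]
    have htot : ∑ g : Γ, (χ : Γ → ℂ) g * conj ((χ : Γ → ℂ) g) = (Nat.card Γ : ℂ) := by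
      have h := IsIrrCharacter.classInner_self χ.2
      rw [classInner, inv_mul_eq_iff_eq_mul₀ natCard_ne_zero_complex, mul_one] at h
      exact h
    have hN1 : ∑ n : N, (χ : Γ → ℂ) n * conj ((χ : Γ → ℂ) n) = (Nat.card N : ℂ) := by
      have h := IsIrrCharacter.classInner_self θ.2
      rw [classInner, inv_mul_eq_iff_eq_mul₀ natCard_ne_zero_complex, mul_one] at h
      simpa only [hχN] using h
    have hcard : Nat.card Γ = 4 * Nat.card N := by
      rw [← Nat.card_eq_of_bijective _ hbij, Nat.card_prod, Nat.card_fin]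
    rw [← (hbij.sum_comp fun g => (χ : Γ → ℂ) g * conj ((χ : Γ → ℂ) g)), Fintype.sum_prod_type,
      Fin.sum_univ_four] at htot
    simp only [cs, Matrix.cons_val_zero, Matrix.cons_val_one, Matrix.cons_val, one_mul] at htot
    rw [hN1, norm_coset N hodd D.xx hχc, norm_coset N hodd D.yy hχc, norm_coset N hodd D.zz hχc,
      hnx, hny, hnz, hcard] at htot
    have h : ((Nat.card N * (1 + kx + ky + kz) : ℕ) : ℂ) = ((Nat.card N * 4 : ℕ) : ℂ) := by
      push_cast at htot ⊢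
      linear_combination htot
    have h2 := Nat.eq_of_mul_eq_mul_left (Nat.card_pos (α := N)) (by exact_mod_cast h)
    omega
  obtain ⟨rfl, rfl, rfl⟩ : kx = 1 ∧ ky = 1 ∧ kz = 1 := by omega
  have hπs : ∀ a (ha : a ∈ D.S), a ≠ 1 → Function.Surjective (π a) := fun a ha ha1 q => by
    obtain ⟨c, hc⟩ := hsurj q
    exact ⟨⟨c, D.C_le ha c.2⟩, by rw [hres a ha ha1 c ⟨c, D.C_le ha c.2⟩ rfl, hc]⟩
  have mkval : ∀ a (ha : a ∈ D.S) (ha1 : a ≠ 1),
      (∀ (hodd : Odd (Nat.card N))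
      (ν : IrrCharacter (fixN N a)), (∀ s ∈ D.S, ∀ g g' : fixN N a, (g' : Γ) = s * g * s⁻¹ →
        (ν : fixN N a → ℂ) g' = (ν : fixN N a → ℂ) g) →
      (∀ c : D.C, (ν : fixN N a → ℂ) ⟨c, D.C_le ha c.2⟩ = (μ : D.C → ℂ) c) →
      ∃ ε : ℂ, (ε = 1 ∨ ε = -1) ∧
        ∀ h : fixN N a, (χ : Γ → ℂ) (a * h) = ε * (ν : fixN N a → ℂ) h) →
      ∃ ε : ℂ, (ε = 1 ∨ ε = -1) ∧
        ∀ h : fixN N a, (χ : Γ → ℂ) (a * h) = ε * (l : Q → ℂ) (π a h) := fun a ha ha1 H =>
    H hodd ⟨_, IsIrrCharacter.comp_surjective l.2 (π a) (hπs a ha ha1)⟩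
      (fun s hs g g' hg => by
        show (l : Q → ℂ) (π a g') = (l : Q → ℂ) (π a g)
        rw [hinv a ha ha1 s hs g g' hg])
      (fun c => by
        show (l : Q → ℂ) (π a ⟨c, D.C_le ha c.2⟩) = (l : Q → ℂ) (π0 c)
        rw [hres a ha ha1 c ⟨c, D.C_le ha c.2⟩ rfl])
  obtain ⟨εx, hεx, hvx⟩ := mkval D.x D.x_mem hx1 (valx (by rw [hnx, Nat.cast_one]))
  obtain ⟨εy, hεy, hvy⟩ := mkval D.y D.y_mem hy1 (valy (by rw [hny, Nat.cast_one]))
  obtain ⟨εz, hεz, hvz⟩ := mkval z hzS hz1 (valz (by rw [hnz, Nat.cast_one]))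
  have hxv : (χ : Γ → ℂ) D.x = εx * L := by
    simpa using hvx 1
  have hyv : (χ : Γ → ℂ) D.y = εy * L := by
    simpa using hvy 1
  -- every product of a conjugate of `x` and a conjugate of `y` has the value `εz L`
  have hterm : ∀ g : Γ, (χ : Γ → ℂ) (D.x * (g * D.y * g⁻¹)) = εz * L := by
    intro g
    set b := g * D.y * g⁻¹ with hb
    have hbb : b * b = 1 := by
      calc b * b = g * (D.y * D.y) * g⁻¹ := by rw [hb]; group
        _ = 1 := by rw [D.yy]; group
    have hbN : D.y * b ∈ N := by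
      rcases D.cover g with h | h | h | h
      all_goals
        obtain ⟨s, hs, k, hk, rfl⟩ : ∃ s ∈ D.S, ∃ k ∈ N, g = s * k := by
          first
          | exact ⟨1, one_mem _, g, h, (one_mul g).symm⟩
          | exact ⟨D.x, D.x_mem, _, h, by rw [← mul_assoc, D.xx, one_mul]⟩
          | exact ⟨D.y, D.y_mem, _, h, by rw [← mul_assoc, D.yy, one_mul]⟩
          | exact ⟨z, hzS, _, h, by rw [← mul_assoc, hz, D.zz, one_mul]⟩
        have hsy : D.y * s = s * D.y := D.comm D.y_mem hs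
        have : D.y * b = s * ((D.y * k * D.y⁻¹) * k⁻¹) * s⁻¹ := by
          rw [hb, D.yi]
          calc D.y * (s * k * D.y * (s * k)⁻¹) = (D.y * s) * k * D.y * k⁻¹ * s⁻¹ := by group
            _ = s * (D.y * k * D.y * k⁻¹) * s⁻¹ := by rw [hsy]; group
        rw [this]
        exact hN.conj_mem _ (N.mul_mem (hN.conj_mem k hk _) (N.inv_mem hk)) _
    set p := D.x * b with hp
    have hpN : z * p ∈ N := by
      have : z * p = D.y * (D.x * D.x) * b := by rw [hp, hz, D.xy]; group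
      rw [this, D.xx, mul_one]
      exact hbN
    obtain ⟨r, hr, m, hm, hzm, he⟩ := exists_coset_rep N hodd D.zz hpN
    rw [← mul_assoc, hz, D.zz, one_mul] at he
    rw [← hz] at he hzm
    -- the conjugate of `x` inverts `z m`
    set x' := r⁻¹ * D.x * r with hx'
    have hx'x' : x' * x' = 1 := by
      rw [hx', show r⁻¹ * D.x * r * (r⁻¹ * D.x * r) = r⁻¹ * (D.x * D.x) * r by group, D.xx]; group
    have hinvp : D.x * p * D.x = p⁻¹ := by
      have hbi : b⁻¹ = b := inv_eq_of_mul_eq_one_right hbb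
      rw [hp, mul_inv_rev, hbi, D.xi, ← mul_assoc D.x D.x, D.xx, one_mul]
    have hinv' : x' * (z * m) * x'⁻¹ = (z * m)⁻¹ := by
      have hx'i : x'⁻¹ = x' := inv_eq_of_mul_eq_one_right hx'x'
      rw [hx'i, hx']
      calc r⁻¹ * D.x * r * (z * m) * (r⁻¹ * D.x * r) = r⁻¹ * (D.x * (r * (z * m) * r⁻¹) * D.x) * r :=
            by group
        _ = r⁻¹ * (r * (z * m) * r⁻¹)⁻¹ * r := by rw [← he, hinvp]
        _ = (z * m)⁻¹ := by group
    have hzinv : x' * z * x'⁻¹ = z := by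
      have e3 := congrArg (fun w => w ^ Nat.card N) hinv'
      simp only [conj_pow, inv_pow] at e3
      rw [(show Commute z m from hzm).mul_pow, pow_card_eq_one_of_mem hm, mul_one] at e3
      obtain ⟨k, hk⟩ := id hodd
      have hzp : z ^ Nat.card N = z := by
        rw [hk, pow_succ, pow_mul, pow_two, hz, D.zz, one_pow, one_mul]
      rw [hzp] at e3
      rwa [show z⁻¹ = z from inv_eq_of_mul_eq_one_right D.zz] at e3
    have hx'z : x' * z = z * x' := mul_inv_eq_iff_eq_mul.1 hzinv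
    set t := D.x * x' with ht
    have htN : t ∈ N := by
      have : t = (D.x * r⁻¹ * D.x⁻¹) * r := by rw [ht, hx', D.xi]; group
      rw [this]
      exact N.mul_mem (hN.conj_mem _ (N.inv_mem hr) _) hr
    have hxz : D.x * z = z * D.x := D.comm D.x_mem hzS
    have htz : t * z = z * t := by
      rw [ht, mul_assoc, hx'z, ← mul_assoc, hxz, mul_assoc]
    obtain ⟨j, hj⟩ := exists_conj_eq hodd D.xx htN (by
      rw [ht, ← mul_assoc D.x D.x, D.xx, one_mul, hx'x'])
    rw [ht, ← mul_assoc D.x D.x, D.xx, one_mul, ← ht] at hj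
    set k := t ^ j
    let K : fixN N z := ⟨k, N.pow_mem htN j, Subgroup.mem_centralizer_singleton_iff.2
      (Commute.pow_left htz j)⟩
    have hmz : m ∈ fixN N z := ⟨hm, Subgroup.mem_centralizer_singleton_iff.2 hzm.symm⟩
    let M : fixN N z := ⟨m, hmz⟩
    have hxm : D.x * (k * m * k⁻¹) * D.x⁻¹ = (k * m * k⁻¹)⁻¹ := by
      have hm' : x' * m * x'⁻¹ = m⁻¹ := by
        have e : z * (x' * m * x'⁻¹) = (z * m)⁻¹ := by
          rw [← hinv', ← mul_assoc, ← mul_assoc, ← hx'z]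
          simp only [mul_assoc]
        rw [mul_inv_rev z m, show z⁻¹ = z from inv_eq_of_mul_eq_one_right D.zz] at e
        have hzm' : z * m⁻¹ = m⁻¹ * z := Commute.inv_right hzm
        exact mul_left_cancel (e.trans hzm'.symm)
      calc D.x * (k * m * k⁻¹) * D.x⁻¹
          = k * ((k⁻¹ * D.x * k) * m * (k⁻¹ * D.x * k)⁻¹) * k⁻¹ := by group
        _ = k * m⁻¹ * k⁻¹ := by rw [hj, hm']
        _ = (k * m * k⁻¹)⁻¹ := by group
    have hπ1 : π z M = 1 := by
      have h1 : (π z (K * M * K⁻¹))⁻¹ = π z (K * M * K⁻¹) := by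
        rw [← map_inv]
        exact hinv z hzS hz1 D.x D.x_mem (K * M * K⁻¹) (K * M * K⁻¹)⁻¹ (by push_cast; exact hxm.symm)
      have h2 : π z (K * M * K⁻¹) = 1 := eq_one_of_inv_eq hodd (by
        rw [← map_pow]
        have : (K * M * K⁻¹) ^ Nat.card N = 1 := Subtype.ext (pow_card_eq_one_of_mem (K * M * K⁻¹).2.1)
        rw [this, map_one]) h1
      rw [map_mul, map_mul, map_inv] at h2
      have h3 : π z M = (π z K)⁻¹ * (π z K * π z M * (π z K)⁻¹) * π z K := by group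
      rw [h3, h2]; group
    rw [he, IsCharacter.conj_apply hχc, show (χ : Γ → ℂ) (z * m) = _ from hvz M, hπ1]
  -- the degree
  have hdeg : (χ : Γ → ℂ) 1 = L := by
    have h := IsIrrCharacter.sum_conj_translate χ.2 D.x D.y
    rw [Finset.sum_congr rfl fun g _ => hterm g, Finset.sum_const, Finset.card_univ, nsmul_eq_mul,
      ← Nat.card_eq_fintype_card, hxv, hyv] at h
    obtain ⟨d, hd0, hd'⟩ := IsIrrCharacter.exists_apply_one χ.2
    rw [hL, hL', hd'] at h
    rw [hL, hL', hd']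
    have hd'' : (d : ℂ) ≠ 0 := by exact_mod_cast hd0.ne'
    have hG0 : (Nat.card Γ : ℂ) ≠ 0 := natCard_ne_zero_complex
    have hL0 : (L' : ℂ) ≠ 0 := by exact_mod_cast hL'0.ne'
    field_simp at h
    have h5 := congrArg norm h
    simp only [norm_mul, Complex.norm_natCast] at h5
    have n1 : ‖εx‖ = 1 := by rcases hεx with rfl | rfl <;> simp
    have n2 : ‖εy‖ = 1 := by rcases hεy with rfl | rfl <;> simp
    have n3 : ‖εz‖ = 1 := by rcases hεz with rfl | rfl <;> simp
    rw [n1, n2, n3] at h5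
    ring_nf at h5
    have hLr : (0 : ℝ) < L' := by exact_mod_cast hL'0
    have : (d : ℝ) = L' := by nlinarith
    exact_mod_cast this
  refine ⟨(χ : Γ → ℂ), hχc, hdeg, ?_, ?_⟩
  · intro c
    have h : (fun c : D.C => (χ : Γ → ℂ) c) = (μ : D.C → ℂ) := by
      refine eq_of_constituent (IsCharacter.restrict hχc D.C) μ ?_ ?_
      · rw [show classInner (fun c : D.C => (χ : Γ → ℂ) c) (μ : D.C → ℂ) = _ from hμm]
        exact_mod_cast hmodd.pos.ne'
      · show (χ : Γ → ℂ) ((1 : D.C) : Γ) = (l : Q → ℂ) (π0 1)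
        rw [OneMemClass.coe_one, map_one, hdeg]
    exact congrFun h c
  · have hnorm : ∀ g : Γ, ‖(χ : Γ → ℂ) (D.x * (g * D.y * g⁻¹))‖ = ‖(χ : Γ → ℂ) 1‖ := fun g => by
      rw [hterm g, hdeg, norm_mul]
      rcases hεz with rfl | rfl <;> simp
    have hY : ∀ g : Γ, g * D.y * g⁻¹ * D.y⁻¹ ∈ charKernel hχc := fun g => by
      have h := inv_mul_mem_kernel hχc (p := D.x * (1 * D.y * 1⁻¹)) (q := D.x * (g * D.y * g⁻¹))
        (by rw [hterm, hterm]) (hnorm 1)
      rw [inv_one, one_mul, mul_one, mul_inv_rev, mul_assoc, inv_mul_cancel_left] at h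
      have h2 := (charKernel_normal hχc).conj_mem _ ((mem_charKernel hχc).2 h) D.y
      simpa [mul_assoc] using h2
    have hX : ∀ g : Γ, g * D.x * g⁻¹ * D.x⁻¹ ∈ charKernel hχc := fun g => by
      have e : (χ : Γ → ℂ) ((g * D.x * g⁻¹) * D.y) = εz * L := by
        rw [← hterm g⁻¹, ← IsCharacter.conj_apply hχc (D.x * (g⁻¹ * D.y * g⁻¹⁻¹)) g]
        congr 1
        group
      have e0 : (χ : Γ → ℂ) (D.x * D.y) = εz * L := by simpa using hterm 1
      have h := inv_mul_mem_kernel hχc (p := (g * D.x * g⁻¹) * D.y) (q := D.x * D.y)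
        (by rw [e, e0]) (by
          rw [e, hdeg, norm_mul]
          rcases hεz with rfl | rfl <;> simp)
      have h2 := (charKernel_normal hχc).conj_mem _ ((mem_charKernel hχc).2 h) D.y
      have h3 := inv_mem h2
      have h4 := (charKernel_normal hχc).conj_mem _ h3 D.x
      simp only [mul_inv_rev, inv_inv] at h4
      simpa [mul_assoc] using h4
    intro g _ e he
    refine (mem_charKernel hχc).1 ?_
    rcases D.mem_iff.1 he with rfl | rfl | rfl | rfl
    · simp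
    · exact hX g
    · exact hY g
    · have := mul_mem (hX g) ((charKernel_normal hχc).conj_mem _ (hY g) D.x)
      simpa [mul_assoc] using this

end Cfsg.Agent.Lib.CoprimeGen
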