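import Cfsg.Agent.Lib.Glauberman.PGroup
import Cfsg.Agent.Lib.Glauberman.Conj
import Cfsg.Agent.Lib.Glauberman.CoprimeDegree
import Cfsg.Agent.Lib.Characters.Convolution

/-!
# Character values on the outer cosets of an odd normal subgroup

For a normal subgroup `N` of odd order and an involution `a`, the function `m ↦ χ (a m)` on
`N ∩ C(a)` has norm equal to the average of `|χ|²` over the coset `a N`, and its multiplicities
are congruent modulo two to those of `χ`.
-/

set_option autoImplicit false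
set_option linter.unusedSectionVars false
set_option linter.style.haveILetI false

namespace Cfsg.Agent.Lib.CoprimeGen

open Cfsg Cfsg.Agent.Lib.Blocks Cfsg.Agent.Lib.Characters
open scoped ComplexConjugate

universe u

variable {Γ : Type u} [Group Γ] [Finite Γ]

/-- A group of odd order has no element equal to its inverse except the identity. -/
theorem eq_one_of_inv_eq {Q : Type*} [Group Q] {q : Q} {n : ℕ} (hn : Odd n) (hq : q ^ n = 1)
    (h : q⁻¹ = q) : q = 1 := by
  obtain ⟨k, rfl⟩ := hn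
  have h2 : q * q = 1 := by nth_rw 1 [← h]; exact inv_mul_cancel q
  rwa [pow_succ, pow_mul, pow_two, h2, one_pow, one_mul] at hq

theorem pow_card_eq_one_of_mem {N : Subgroup Γ} {n : Γ} (hn : n ∈ N) :
    n ^ Nat.card N = 1 := by
  have h := pow_card_eq_one' (x := (⟨n, hn⟩ : N))
  exact congrArg Subtype.val h

/-- An element inverted by `a` has a square root inverted by `a` among its powers. -/
theorem exists_sqrt {N : Subgroup Γ} (hodd : Odd (Nat.card N)) {n : Γ} (hn : n ∈ N) :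
    ∃ j : ℕ, (n ^ j) ^ 2 = n := by
  obtain ⟨k, hk⟩ := hodd
  refine ⟨k + 1, ?_⟩
  have h := pow_card_eq_one_of_mem hn
  rw [hk] at h
  rw [← pow_mul, show (k + 1) * 2 = 2 * k + 1 + 1 by ring, pow_succ, h, one_mul]

/-- Involutions of a coset `a N` with `N` of odd order are conjugate to `a`. -/
theorem exists_conj_eq {N : Subgroup Γ} (hodd : Odd (Nat.card N)) {a n : Γ} (ha : a * a = 1)
    (hn : n ∈ N) (h : (a * n) * (a * n) = 1) : ∃ j : ℕ, (n ^ j)⁻¹ * a * n ^ j = a * n := by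
  obtain ⟨j, hj⟩ := exists_sqrt hodd hn
  refine ⟨j, ?_⟩
  have hai : a⁻¹ = a := inv_eq_of_mul_eq_one_right ha
  have hinv : a * n * a = n⁻¹ := by
    refine eq_inv_of_mul_eq_one_left ?_
    rw [← h]; group
  have hpow : a * n ^ j * a = (n ^ j)⁻¹ := by
    have h2 : (a * n * a⁻¹) ^ j = a * n ^ j * a⁻¹ := conj_pow
    rw [hai] at h2
    rw [← h2, hinv, inv_pow]
  calc (n ^ j)⁻¹ * a * n ^ j = (a * n ^ j * a) * a * n ^ j := by rw [hpow]
    _ = a * (n ^ j * (a * a) * n ^ j) := by group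
    _ = a * n := by rw [ha, mul_one, ← pow_two, hj]

/-- The fixed points of `a` in `N`. -/
abbrev fixN (N : Subgroup Γ) (a : Γ) : Subgroup Γ := N ⊓ Subgroup.centralizer ({a} : Set Γ)

variable (N : Subgroup Γ) [hN : N.Normal] (hodd : Odd (Nat.card N))

include hN hodd

/-- Every element of `a N` is conjugate by an element of `N` to one commuting with `a`. -/
theorem exists_coset_rep {a n : Γ} (ha : a * a = 1) (hn : n ∈ N) :
    ∃ g ∈ N, ∃ m ∈ N, a * m = m * a ∧ a * n = g * (a * m) * g⁻¹ := by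
  set u := a * n with hu
  set v := u ^ Nat.card N with hv
  have hai : a⁻¹ = a := inv_eq_of_mul_eq_one_right ha
  have hu2 : u * u ∈ N := by
    have : u * u = (a * n * a⁻¹) * n := by rw [hai, hu]; group
    rw [this]
    exact N.mul_mem (hN.conj_mem n hn a) hn
  have hv2 : v * v = 1 := by
    rw [hv, ← (Commute.refl u).mul_pow]
    exact pow_card_eq_one_of_mem hu2
  obtain ⟨k, hk⟩ := hodd
  have hvN : a * v ∈ N := by
    have h1 : v = (u * u) ^ k * u := by
      rw [hv, hk, pow_succ, pow_mul, pow_two]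
    have h2 : a * v = a * (u * u) ^ k * a⁻¹ * n := by
      rw [h1, hai]
      simp only [hu, mul_assoc]
    rw [h2]
    exact N.mul_mem (hN.conj_mem _ (N.pow_mem hu2 k) a) hn
  have hav : a * (a * v) = v := by rw [← mul_assoc, ha, one_mul]
  obtain ⟨j, hj⟩ := exists_conj_eq ⟨k, hk⟩ ha hvN (by rw [hav, hv2])
  rw [hav] at hj
  set r := (a * v) ^ j
  have hr : r ∈ N := N.pow_mem hvN j
  set w := r * u * r⁻¹ with hw
  have hvu : v * u = u * v := by rw [hv, ← pow_succ, ← pow_succ']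
  have hra : r * v * r⁻¹ = a := by rw [← hj]; group
  have haw : a * w = w * a := by
    rw [hw]
    calc a * (r * u * r⁻¹) = r * (v * u) * r⁻¹ := by rw [← hra]; group
      _ = r * (u * v) * r⁻¹ := by rw [hvu]
      _ = r * u * r⁻¹ * a := by rw [← hra]; group
  refine ⟨r⁻¹, N.inv_mem hr, a * w, ?_, ?_, ?_⟩
  · have : a * w = (a * r * a⁻¹) * n * r⁻¹ := by
      rw [hai, hw, hu]; group
    rw [this]
    exact N.mul_mem (N.mul_mem (hN.conj_mem r hr a) hn) (N.inv_mem hr)
  · rw [← mul_assoc, ha, one_mul, haw, mul_assoc, ha, mul_one]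
  · rw [← mul_assoc a a, ha, one_mul, hw, inv_inv]
    group

/-- Summing over `N × (N ∩ C(a))` sweeps the coset `a N` evenly. -/
theorem sum_coset {β : Type*} [AddCommMonoid β] {a : Γ} (ha : a * a = 1) [Fintype N]
    [Fintype ↥(fixN N a)] (F : Γ → β) :
    ∑ g : N, ∑ m : ↥(fixN N a),
      F ((g : Γ) * (a * m) * (g : Γ)⁻¹) =
      Nat.card ↥(fixN N a) • ∑ n : N, F (a * n) := by
  classical
  have hMc : ∀ m : ↥(fixN N a), (m : Γ) * a = a * m := fun m =>
    Subgroup.mem_centralizer_singleton_iff.1 m.2.2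
  have hΦ : ∀ p : N × ↥(fixN N a), a⁻¹ * ((p.1 : Γ) * (a * p.2) * (p.1 : Γ)⁻¹) ∈ N := fun p => by
    have : a⁻¹ * ((p.1 : Γ) * (a * p.2) * (p.1 : Γ)⁻¹) =
        (a⁻¹ * (p.1 : Γ) * a⁻¹⁻¹) * p.2 * (p.1 : Γ)⁻¹ := by group
    rw [this]
    exact N.mul_mem (N.mul_mem (hN.conj_mem _ p.1.2 _) p.2.2.1) (N.inv_mem p.1.2)
  let Φ : N × ↥(fixN N a) → N := fun p => ⟨_, hΦ p⟩
  have hfib : ∀ n : N, (Finset.univ.filter fun p => Φ p = n).card = Nat.card ↥(fixN N a) := by
    intro n
    obtain ⟨g0, hg0, m0, hm0, hm0a, he⟩ := exists_coset_rep N hodd ha n.2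
    rw [Nat.card_eq_fintype_card, ← Fintype.card_subtype]
    symm
    refine Fintype.card_of_bijective
      (f := fun h : ↥(fixN N a) => (⟨(⟨g0 * h, N.mul_mem hg0 h.2.1⟩,
        ⟨(h : Γ)⁻¹ * m0 * h, N.mul_mem (N.mul_mem (N.inv_mem h.2.1) hm0) h.2.1,
          Subgroup.mul_mem _ (Subgroup.mul_mem _ (Subgroup.inv_mem _ h.2.2)
            (Subgroup.mem_centralizer_singleton_iff.2 hm0a.symm)) h.2.2⟩), ?_⟩ :
        {p : N × ↥(fixN N a) // Φ p = n})) ⟨?_, ?_⟩
    · refine Subtype.ext ?_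
      show a⁻¹ * (g0 * (h : Γ) * (a * ((h : Γ)⁻¹ * m0 * h)) * (g0 * (h : Γ))⁻¹) = (n : Γ)
      have hc : (h : Γ) * a * (h : Γ)⁻¹ = a := by rw [hMc h]; group
      calc a⁻¹ * (g0 * (h : Γ) * (a * ((h : Γ)⁻¹ * m0 * h)) * (g0 * (h : Γ))⁻¹)
          = a⁻¹ * (g0 * (((h : Γ) * a * (h : Γ)⁻¹) * m0) * g0⁻¹) := by group
        _ = a⁻¹ * (a * (n : Γ)) := by rw [hc, he]
        _ = n := by group
    · intro h h' hh
      have := congrArg (fun p : {p : N × ↥(fixN N a) // Φ p = n} => ((p.1.1 : N) : Γ)) hh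
      exact Subtype.ext (mul_left_cancel this)
    · rintro ⟨⟨g, m⟩, hp⟩
      have hp' : a⁻¹ * ((g : Γ) * (a * m) * (g : Γ)⁻¹) = (n : Γ) := congrArg Subtype.val hp
      have hp2 : (g : Γ) * (a * m) * (g : Γ)⁻¹ = g0 * (a * m0) * g0⁻¹ := by
        rw [← he, ← hp']; group
      set h := g0⁻¹ * (g : Γ) with hh
      have e1 : h * (a * m) * h⁻¹ = a * m0 := by
        calc h * (a * m) * h⁻¹ = g0⁻¹ * ((g : Γ) * (a * m) * (g : Γ)⁻¹) * g0 := by rw [hh]; group
          _ = a * m0 := by rw [hp2]; group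
      have e2 : h * a * h⁻¹ = a := by
        have e3 := congrArg (fun z => z ^ Nat.card N) e1
        simp only [conj_pow] at e3
        rw [(show Commute a (m : Γ) from (hMc m).symm).mul_pow,
          (show Commute a m0 from hm0a).mul_pow,
          pow_card_eq_one_of_mem m.2.1, pow_card_eq_one_of_mem hm0, mul_one] at e3
        obtain ⟨k, hk⟩ := hodd
        rwa [hk, pow_succ, pow_mul, pow_two, ha, one_pow, one_mul] at e3
      have hhM : h ∈ fixN N a := ⟨N.mul_mem (N.inv_mem hg0) g.2,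
        Subgroup.mem_centralizer_singleton_iff.2 (mul_inv_eq_iff_eq_mul.1 e2)⟩
      refine ⟨⟨h, hhM⟩, Subtype.ext (Prod.ext (Subtype.ext ?_) (Subtype.ext ?_))⟩
      · show g0 * h = (g : Γ)
        rw [hh]; group
      · show h⁻¹ * m0 * h = (m : Γ)
        have e4 : a * (h⁻¹ * m0 * h) = a * (m : Γ) := by
          calc a * (h⁻¹ * m0 * h) = h⁻¹ * ((h * a * h⁻¹) * m0) * h := by group
            _ = h⁻¹ * (h * (a * m) * h⁻¹) * h := by rw [e2, e1]
            _ = a * (m : Γ) := by group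
        exact mul_left_cancel e4
  have key : ∀ p : N × ↥(fixN N a), F ((p.1 : Γ) * (a * p.2) * (p.1 : Γ)⁻¹) = F (a * (Φ p : Γ)) := fun p => by
    congr 1
    show _ = a * (a⁻¹ * ((p.1 : Γ) * (a * p.2) * (p.1 : Γ)⁻¹))
    group
  calc _ = ∑ p : N × ↥(fixN N a), F (a * (Φ p : Γ)) := by
        rw [Fintype.sum_prod_type]
        exact Finset.sum_congr rfl fun g _ => Finset.sum_congr rfl fun m _ => key (g, m)
    _ = ∑ n : N, ∑ p ∈ Finset.univ.filter (fun p => Φ p = n), F (a * (Φ p : Γ)) :=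
        (Finset.sum_fiberwise_of_maps_to (fun p _ => Finset.mem_univ _) _).symm
    _ = Nat.card ↥(fixN N a) • ∑ n : N, F (a * n) := by
        rw [Finset.smul_sum]
        refine Finset.sum_congr rfl fun n _ => ?_
        rw [Finset.sum_congr rfl fun p hp => by rw [(Finset.mem_filter.1 hp).2], Finset.sum_const,
          hfib n]

/-- The norm of `m ↦ χ (a m)`. -/
theorem norm_coset {a : Γ} (ha : a * a = 1) [Fintype N]
    [Fintype ↥(fixN N a)] {χ : Γ → ℂ} (hχ : IsCharacter Γ χ) :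
    ∑ n : N, χ (a * n) * conj (χ (a * n)) =
      (Nat.card N : ℂ) * classInner
        (fun m : ↥(fixN N a) => χ (a * m))
        (fun m : ↥(fixN N a) => χ (a * m)) := by
  classical
  have h := sum_coset N hodd ha (fun z => χ z * conj (χ z))
  simp only [IsCharacter.conj_apply hχ] at h
  rw [Finset.sum_const, Finset.card_univ, ← Nat.card_eq_fintype_card] at h
  rw [nsmul_eq_mul, nsmul_eq_mul] at h
  rw [classInner]
  have hM0 : (Nat.card ↥(fixN N a) : ℂ) ≠ 0 := natCard_ne_zero_complex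
  field_simp
  linear_combination (-1 : ℂ) * h

end Cfsg.Agent.Lib.CoprimeGen
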