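import Cfsg.Agent.Lib.CoprimeGen.FourCore
import Cfsg.Agent.Lib.Coprime.Action
import Mathlib.GroupTheory.SemidirectProduct

/-!
# Generation of fixed points in a group of odd order

For an abelian two-group `A` acting on a group `Y` of odd order with `[Y, A] = Y` and `B ≤ A`,
the fixed points of `B` are generated by their intersections with `[C_Y(B₀), A]`, `B / B₀` cyclic.
No solvability of `Y` is assumed.
-/

set_option autoImplicit false
set_option linter.unusedSectionVars false
set_option linter.style.haveILetI false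

namespace Cfsg.Agent.Lib.CoprimeGen

open Cfsg Cfsg.Agent.Lib.Characters
open scoped commutatorElement

universe u

/-- A commutative two-group without two commuting distinct involutions is cyclic. -/
theorem isCyclic_or_exists_pair {H : Type*} [Group H] [Finite H] (hH : IsPGroup 2 H)
    (hc : ∀ a b : H, a * b = b * a) :
    IsCyclic H ∨ ∃ a b : H, a ≠ 1 ∧ b ≠ 1 ∧ a ≠ b ∧ a * a = 1 ∧ b * b = 1 := by
  classical
  rw [or_iff_not_imp_right]
  intro hno
  push Not at hno
  letI : CommGroup H := { ‹Group H› with mul_comm := hc }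
  haveI : Fintype H := Fintype.ofFinite H
  have hk : ∀ k, (Finset.univ.filter fun a : H => a ^ 2 ^ k = 1).card ≤ 2 ^ k := by
    intro k
    induction k with
    | zero =>
      rw [pow_zero, Finset.card_le_one]
      intro a ha b hb
      simp only [pow_one, Finset.mem_filter] at ha hb
      rw [ha.2, hb.2]
    | succ k ih =>
      have h2 : ∀ b ∈ Finset.univ.filter (fun a : H => a ^ 2 ^ k = 1),
          ((Finset.univ.filter fun a : H => a ^ 2 ^ (k + 1) = 1).filter fun a => a * a = b).card ≤ 2 := by
        intro b _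
        by_contra hgt
        obtain ⟨a1, a2, a3, h1, h2, h3, n12, n13, n23⟩ := Finset.two_lt_card_iff.1 (not_le.1 hgt)
        simp only [Finset.mem_filter] at h1 h2 h3
        have e : ∀ {s t : H}, s * s = b → t * t = b → (s⁻¹ * t) * (s⁻¹ * t) = 1 := fun {s t} hs ht => by
          rw [mul_mul_mul_comm, ← mul_inv_rev, hs, ht, inv_mul_cancel]
        have q1 : a1⁻¹ * a2 ≠ 1 := fun h => n12 (inv_mul_eq_one.1 h)
        have q2 : a1⁻¹ * a3 ≠ 1 := fun h => n13 (inv_mul_eq_one.1 h)
        exact hno _ _ q1 q2 (fun h => n23 (mul_left_cancel h)) (e h1.2 h2.2) (e h1.2 h3.2)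
      have hmap : ∀ a ∈ Finset.univ.filter (fun a : H => a ^ 2 ^ (k + 1) = 1),
          a * a ∈ Finset.univ.filter (fun a : H => a ^ 2 ^ k = 1) := fun a ha => by
        simp only [Finset.mem_filter, Finset.mem_univ, true_and] at ha ⊢
        rwa [← pow_two, ← pow_mul, ← pow_succ']
      refine (Finset.card_le_mul_card_image_of_maps_to hmap 2 h2).trans ?_
      rw [pow_succ']
      exact Nat.mul_le_mul_left 2 ih
  refine isCyclic_of_card_pow_eq_one_le fun n hn => ?_
  obtain ⟨e, he⟩ := hH.exists_card_eq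
  obtain ⟨i, -, hi⟩ := (Nat.dvd_prime_pow Nat.prime_two).1 (Nat.gcd_dvd_right n (2 ^ e))
  refine (Finset.card_le_card ?_).trans ((hk i).trans (Nat.le_of_dvd hn (hi ▸ Nat.gcd_dvd_left _ _)))
  intro a ha
  simp only [Finset.mem_filter, Finset.mem_univ, true_and] at ha ⊢
  rw [← hi]
  exact pow_gcd_eq_one.2 ⟨ha, he ▸ pow_card_eq_one'⟩

variable {G : Type u} [Group G] [Finite G]

/-- The subgroup generated by the pieces. -/
def gen (A B Y : Subgroup G) : Subgroup G :=
  ⨆ B₀ : {B₀ : Subgroup G // B₀ ≤ B ∧ ∀ [(B₀.subgroupOf B).Normal], IsCyclic (↥B ⧸ B₀.subgroupOf B)},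
    Y ⊓ Subgroup.centralizer (B : Set G) ⊓ ⁅Y ⊓ Subgroup.centralizer ((B₀ : Subgroup G) : Set G), A⁆

theorem gen_le (A B Y : Subgroup G) : gen A B Y ≤ Y ⊓ Subgroup.centralizer (B : Set G) :=
  iSup_le fun _ => inf_le_left

theorem gen_mono (A B : Subgroup G) {Y Y' : Subgroup G} (h : Y' ≤ Y) :
    gen A B Y' ≤ gen A B Y :=
  iSup_mono fun _ => inf_le_inf (inf_le_inf_right _ h)
    (Subgroup.commutator_mono (inf_le_inf_right _ h) le_rfl)

/-- The pieces are permuted trivially by the fixed points. -/
theorem gen_conj (A B Y : Subgroup G) {c d : G} (hc : c ∈ Y ⊓ Subgroup.centralizer (B : Set G))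
    (hd : d ∈ gen A B Y) : c * d * c⁻¹ ∈ gen A B Y := by
  have hle : (gen A B Y).map (MulAut.conj c).toMonoidHom ≤ gen A B Y := by
    rw [gen, Subgroup.map_iSup]
    refine iSup_le fun B₀ => le_iSup_of_le B₀ ?_
    rintro _ ⟨w, hw, rfl⟩
    show c * w * c⁻¹ ∈ _
    have hcX : c ∈ Y ⊓ Subgroup.centralizer ((B₀ : Subgroup G) : Set G) :=
      ⟨hc.1, Subgroup.centralizer_le B₀.2.1 hc.2⟩
    exact ⟨Subgroup.mul_mem _ (Subgroup.mul_mem _ hc hw.1) (Subgroup.inv_mem _ hc),
      (Subgroup.mem_normalizer_iff.1 (Subgroup.normalizer_commutator_ge_left _ _ hcX) w).1 hw.2⟩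
  exact hle ⟨d, hd, rfl⟩

theorem odd_coprime {A K : Subgroup G} (hA : IsPGroup 2 A) (hK : Odd (Nat.card K)) :
    (Nat.card A).Coprime (Nat.card K) := by
  obtain ⟨k, hk⟩ := hA.exists_card_eq
  rw [hk]
  exact Nat.Coprime.pow_left k (Nat.coprime_two_left.2 hK)

theorem le_normalizer_inf_centralizer {A B Y : Subgroup G}
    (hAY : A ≤ Subgroup.normalizer (Y : Set G)) (hAc : ∀ a ∈ A, ∀ b ∈ A, a * b = b * a)
    (hB : B ≤ A) : A ≤ Subgroup.normalizer ((Y ⊓ Subgroup.centralizer (B : Set G) : Subgroup G) : Set G) := by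
  have hone : ∀ a ∈ A, ∀ w ∈ Y ⊓ Subgroup.centralizer (B : Set G),
      a * w * a⁻¹ ∈ Y ⊓ Subgroup.centralizer (B : Set G) := fun a ha w hw => by
    refine ⟨(Subgroup.mem_normalizer_iff.1 (hAY ha) w).1 hw.1,
      Subgroup.mem_centralizer_iff.2 fun b hb => ?_⟩
    have h1 := hAc a ha b (hB hb)
    have h3 : a⁻¹ * b = b * a⁻¹ := hAc _ (inv_mem ha) b (hB hb)
    have h2 : b * w = w * b := Subgroup.mem_centralizer_iff.1 hw.2 b hb
    calc b * (a * w * a⁻¹) = (b * a) * w * a⁻¹ := by group
      _ = a * (b * w) * a⁻¹ := by rw [← h1]; group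
      _ = a * w * (b * a⁻¹) := by rw [h2]; group
      _ = a * w * a⁻¹ * b := by rw [← h3]; group
  intro a ha
  refine Subgroup.mem_normalizer_iff.2 fun w => ⟨hone a ha w, fun h => ?_⟩
  have := hone a⁻¹ (inv_mem ha) _ h
  simpa [mul_assoc] using this

section Hom

variable (A B Y : Subgroup G)

/-- The fixed points modulo the generated subgroup. -/
abbrev gSub : Subgroup ↥(Y ⊓ Subgroup.centralizer (B : Set G)) :=
  (gen A B Y).subgroupOf (Y ⊓ Subgroup.centralizer (B : Set G))

instance gSub_normal : (gSub A B Y).Normal :=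
  ⟨fun d hd c => gen_conj A B Y c.2 hd⟩

/-- `w` has image `q`. -/
def Img (W : Subgroup G) (w : G) (q : ↥(Y ⊓ Subgroup.centralizer (B : Set G)) ⧸ gSub A B Y) : Prop :=
  ∃ n ∈ ⁅W, A⁆, ∃ c : ↥(Y ⊓ Subgroup.centralizer (B : Set G)), w = n * c ∧ (c : G) ∈ W ∧
    q = QuotientGroup.mk c

variable {A B Y}

theorem Img.unique {W : Subgroup G} (hW : W ⊓ ⊤ ≤ Y)
    (hAW : A ≤ Subgroup.normalizer (W : Set G))
    (hD : Subgroup.centralizer (B : Set G) ⊓ ⁅W, A⁆ ≤ gen A B Y) {w : G}
    {q q' : ↥(Y ⊓ Subgroup.centralizer (B : Set G)) ⧸ gSub A B Y}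
    (h : Img A B Y W w q) (h' : Img A B Y W w q') : q = q' := by
  obtain ⟨n, hn, c, hw, -, rfl⟩ := h
  obtain ⟨n', hn', c', hw', -, rfl⟩ := h'
  rw [QuotientGroup.eq, Subgroup.mem_subgroupOf]
  push_cast
  have e : ((c : G))⁻¹ * c' = (c : G)⁻¹ * (n'⁻¹ * n) * c := by
    have : (c' : G) = n'⁻¹ * (n * c) := by rw [← hw, hw']; group
    rw [this]; group
  have hmem : n'⁻¹ * n ∈ gen A B Y := by
    refine hD ⟨?_, Subgroup.mul_mem _ (Subgroup.inv_mem _ hn') hn⟩
    have h2 : n'⁻¹ * n = (c' : G) * (c : G)⁻¹ := by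
      have : n * (c : G) = n' * c' := hw.symm.trans hw'
      calc n'⁻¹ * n = n'⁻¹ * (n * c) * (c : G)⁻¹ := by group
        _ = _ := by rw [this]; group
    rw [h2]
    exact Subgroup.mul_mem _ c'.2.2 (Subgroup.inv_mem _ c.2.2)
  have := gen_conj A B Y (Subgroup.inv_mem _ c.2) hmem
  rw [e]
  simpa using this

theorem Img.exists_of_mem {W : Subgroup G} (hA : IsPGroup 2 A) (hAc : ∀ a ∈ A, ∀ b ∈ A, a * b = b * a)
    (hB : B ≤ A) (hW : W ≤ Y) (hodd : Odd (Nat.card W))
    (hAW : A ≤ Subgroup.normalizer (W : Set G)) {w : G} (hw : w ∈ W) :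
    ∃ q, Img A B Y W w q := by
  have hsolv : Group.IsSolvable A := by
    haveI : IsMulCommutative A := ⟨⟨fun a b => Subtype.ext (hAc a a.2 b b.2)⟩⟩
    exact Group.isSolvable_of_comm fun a b => Subtype.ext (hAc a a.2 b b.2)
  rw [← Coprime.commutator_sup_centralizer_eq hAW (odd_coprime hA hodd) (Or.inl hsolv)] at hw
  obtain ⟨n, hn, c, hc, rfl⟩ := Coprime.exists_mul_of_mem_sup
    (inf_le_left.trans (Subgroup.normalizer_commutator_ge_left W A)) hw
  exact ⟨_, n, hn, ⟨c, hW hc.1, Subgroup.centralizer_le hB hc.2⟩, rfl, hc.1, rfl⟩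

theorem Img.mul {W : Subgroup G} {w w' : G}
    {q q' : ↥(Y ⊓ Subgroup.centralizer (B : Set G)) ⧸ gSub A B Y}
    (h : Img A B Y W w q) (h' : Img A B Y W w' q') : Img A B Y W (w * w') (q * q') := by
  obtain ⟨n, hn, c, rfl, hc, rfl⟩ := h
  obtain ⟨n', hn', c', rfl, hc', rfl⟩ := h'
  refine ⟨n * ((c : G) * n' * (c : G)⁻¹), mul_mem hn ?_, c * c', by push_cast; group,
    mul_mem hc hc', rfl⟩
  exact (Subgroup.mem_normalizer_iff.1 (Subgroup.normalizer_commutator_ge_left W A hc) n').1 hn'

theorem Img.mono {W W' : Subgroup G} (hle : W' ≤ W) {w : G}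
    {q : ↥(Y ⊓ Subgroup.centralizer (B : Set G)) ⧸ gSub A B Y} (h : Img A B Y W' w q) :
    Img A B Y W w q := by
  obtain ⟨n, hn, c, hw, hc, hq⟩ := h
  exact ⟨n, Subgroup.commutator_mono hle le_rfl hn, c, hw, hle hc, hq⟩

end Hom

/-- Conjugation as automorphisms of a normalized subgroup. -/
def conjB (B Y : Subgroup G) (h : ∀ b ∈ B, ∀ y ∈ Y, b * y * b⁻¹ ∈ Y) : B →* MulAut Y :=
  Glauberman.conjHom Y B h

theorem centralizer_le_gen (A B : Subgroup G) (hA : IsPGroup 2 A)
    (hAc : ∀ a ∈ A, ∀ b ∈ A, a * b = b * a) (hB : B ≤ A) :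
    ∀ (k : ℕ) (Y : Subgroup G), Nat.card Y ≤ k → Odd (Nat.card Y) →
      A ≤ Subgroup.normalizer (Y : Set G) → ⁅Y, A⁆ = Y →
      Y ⊓ Subgroup.centralizer (B : Set G) ≤ gen A B Y := by
  classical
  intro k
  induction k with
  | zero => intro Y hY; exact absurd hY (not_le.2 Nat.card_pos)
  | succ k IH =>
    intro Y hYk hodd hAY hYA
    have hsolv : Group.IsSolvable A :=
      Group.isSolvable_of_comm fun a b => Subtype.ext (hAc a a.2 b b.2)
    have hBY : ∀ b ∈ B, ∀ y ∈ Y, b * y * b⁻¹ ∈ Y := fun b hb y hy =>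
      (Subgroup.mem_normalizer_iff.1 (hAY (hB hb)) y).1 hy
    set φ := conjB B Y hBY
    have hφ : ∀ (b : B) (y : Y), ((φ b y : Y) : G) = (b : G) * y * (b : G)⁻¹ := fun b y => rfl
    have hBc : ∀ a b : φ.range, a * b = b * a := by
      rintro ⟨_, a, rfl⟩ ⟨_, b, rfl⟩
      refine Subtype.ext ?_
      show φ a * φ b = φ b * φ a
      rw [← map_mul, ← map_mul, show a * b = b * a from Subtype.ext (hAc a (hB a.2) b (hB b.2))]
    have hrange : IsPGroup 2 φ.range :=
      (hA.to_le hB).of_surjective φ.rangeRestrict φ.rangeRestrict_surjective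
    rcases isCyclic_or_exists_pair hrange hBc with hcyc | ⟨ex, ey, hx1, hy1, hxy, hxx, hyy⟩
    · -- the cyclic case
      set B₀ := φ.ker.map B.subtype
      have hB₀ : B₀ ≤ B := Subgroup.map_subtype_le _
      have hsub : B₀.subgroupOf B = φ.ker :=
        Subgroup.comap_map_eq_self_of_injective B.subtype_injective _
      have hq : ∀ [(B₀.subgroupOf B).Normal], IsCyclic (↥B ⧸ B₀.subgroupOf B) := by
        intro hn
        exact isCyclic_of_surjective
          ((QuotientGroup.quotientMulEquivOfEq hsub).trans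
            (QuotientGroup.quotientKerEquivRange φ)).symm.toMonoidHom
          ((QuotientGroup.quotientMulEquivOfEq hsub).trans
            (QuotientGroup.quotientKerEquivRange φ)).symm.surjective
      refine le_trans ?_ (le_iSup _ (⟨B₀, hB₀, hq⟩ : {B₀ : Subgroup G // _}))
      intro c hc
      have hcent : Y ⊓ Subgroup.centralizer (B₀ : Set G) = Y := by
        refine inf_eq_left.2 fun y hy => Subgroup.mem_centralizer_iff.2 ?_
        rintro _ ⟨b, hb, rfl⟩
        have := congrArg Subtype.val (DFunLike.congr_fun (MonoidHom.mem_ker.1 hb) (⟨y, hy⟩ : Y))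
        rw [hφ] at this
        exact mul_inv_eq_iff_eq_mul.1 this
      refine ⟨hc, ?_⟩
      show c ∈ ⁅Y ⊓ Subgroup.centralizer (B₀ : Set G), A⁆
      rw [hcent, hYA]
      exact hc.1
    · -- two commuting involutory automorphisms
      obtain ⟨_, u, rfl⟩ := ex
      obtain ⟨_, v, rfl⟩ := ey
      have hu1 : φ u ≠ 1 := fun h => hx1 (Subtype.ext h)
      have hv1 : φ v ≠ 1 := fun h => hy1 (Subtype.ext h)
      have huv : φ u ≠ φ v := fun h => hxy (Subtype.ext h)
      have huu : φ u * φ u = 1 := congrArg Subtype.val hxx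
      have hvv : φ v * φ v = 1 := congrArg Subtype.val hyy
      have hcomm : φ u * φ v = φ v * φ u := by
        rw [← map_mul, ← map_mul, show u * v = v * u from Subtype.ext (hAc u (hB u.2) v (hB v.2))]
      have huv1 : φ u * φ v ≠ 1 := fun h => huv (by
        calc φ u = φ u * (φ v * φ v) := by rw [hvv, mul_one]
          _ = φ v := by rw [← mul_assoc, h, one_mul])
      -- fixed points of elements of `B`
      set W : B → Subgroup G := fun b => Y ⊓ Subgroup.centralizer ({(b : G)} : Set G) with hWdef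
      have hWA : ∀ b : B, A ≤ Subgroup.normalizer ((W b : Subgroup G) : Set G) := fun b => by
        have := le_normalizer_inf_centralizer (B := Subgroup.zpowers (b : G)) hAY hAc
          (Subgroup.zpowers_le.2 (hB b.2))
        rwa [Subgroup.zpowers_eq_closure, Subgroup.centralizer_closure] at this
      have hWodd : ∀ b : B, Odd (Nat.card (W b)) := fun b => odd_of_le inf_le_left hodd
      have hWlt : ∀ b : B, φ b ≠ 1 → W b < Y := fun b hb => by
        refine lt_of_le_of_ne inf_le_left fun h => hb ?_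
        refine MulEquiv.ext fun y => Subtype.ext ?_
        rw [hφ]
        have hy : (y : G) ∈ W b := by rw [h]; exact y.2
        rw [← Subgroup.mem_centralizer_singleton_iff.1 hy.2]
        show (y : G) * b * (b : G)⁻¹ = y
        group
      have hWD : ∀ b : B, φ b ≠ 1 →
          Subgroup.centralizer (B : Set G) ⊓ ⁅W b, A⁆ ≤ gen A B Y := fun b hb => by
        have hle : ⁅W b, A⁆ ≤ W b := Coprime.commutator_le_of_le_normalizer (hWA b)
        have hlt : Nat.card ↥⁅W b, A⁆ ≤ k := by
          have h1 : Nat.card (W b) < Nat.card Y := by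
            by_contra hge
            exact (hWlt b hb).ne (Coprime.eq_of_le_of_card_le (hWlt b hb).le (not_lt.1 hge))
          have h2 := Subgroup.card_le_of_le hle
          omega
        have h := IH ⁅W b, A⁆ hlt (odd_of_le (hle.trans inf_le_left) hodd)
          (Subgroup.normalizer_commutator_ge_right _ _)
          (Coprime.commutator_commutator_eq (hWA b) (odd_coprime hA (hWodd b)) (Or.inl hsolv))
        rw [inf_comm]
        exact h.trans (gen_mono A B (hle.trans inf_le_left))
      by_contra hnot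
      obtain ⟨c₁, hc₁, hc₁g⟩ := SetLike.not_le_iff_exists.1 hnot
      set C := Y ⊓ Subgroup.centralizer (B : Set G)
      set q₁ : ↥C ⧸ gSub A B Y := QuotientGroup.mk ⟨c₁, hc₁⟩ with hq₁
      have hq₁1 : q₁ ≠ 1 := fun h => hc₁g ((QuotientGroup.eq_one_iff (N := gSub A B Y) ⟨c₁, hc₁⟩).1 (hq₁ ▸ h))
      obtain ⟨l, hl⟩ := exists_irr_ne_apply_one hq₁1
      -- the semidirect product
      let E : Subgroup (MulAut Y) := Subgroup.closure {φ u, φ v}
      have hu' : φ u ∈ E := Subgroup.subset_closure (by simp)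
      have hv' : φ v ∈ E := Subgroup.subset_closure (by simp)
      have hErange : ∀ e ∈ E, ∃ b : B, φ b = e := fun e he => by
        have : E ≤ φ.range := by
          rw [Subgroup.closure_le]
          rintro _ (rfl | rfl) <;> exact ⟨_, rfl⟩
        exact this he
      have hE4 : ∀ e ∈ E, e = 1 ∨ e = φ u ∨ e = φ v ∨ e = φ u * φ v := by
        intro e he
        have x1 : ∀ w : MulAut Y, φ u * (φ u * w) = w := fun w => by rw [← mul_assoc, huu, one_mul]
        have y1 : ∀ w : MulAut Y, φ v * (φ v * w) = w := fun w => by rw [← mul_assoc, hvv, one_mul]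
        have yx : ∀ w : MulAut Y, φ v * (φ u * w) = φ u * (φ v * w) := fun w => by
          rw [← mul_assoc, ← hcomm, mul_assoc]
        induction he using Subgroup.closure_induction with
        | mem w hw => rcases hw with rfl | rfl <;> simp
        | one => simp
        | mul a b _ _ ha hb =>
          rcases ha with rfl | rfl | rfl | rfl <;> rcases hb with rfl | rfl | rfl | rfl <;>
            simp [mul_assoc, huu, hvv, ← hcomm, x1, y1, yx]
        | inv a _ ha =>
          have hxi : (φ u)⁻¹ = φ u := inv_eq_of_mul_eq_one_right huu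
          have hyi : (φ v)⁻¹ = φ v := inv_eq_of_mul_eq_one_right hvv
          rcases ha with rfl | rfl | rfl | rfl <;> simp [mul_inv_rev, hxi, hyi, ← hcomm]
      let Γ := Y ⋊[E.subtype] E
      haveI : Finite Γ := Finite.of_equiv (Y × E) SemidirectProduct.equivProd.symm
      let N : Subgroup Γ := (SemidirectProduct.rightHom : Γ →* E).ker
      haveI : N.Normal := MonoidHom.normal_ker _
      have hNmem : ∀ g : Γ, g ∈ N ↔ g.right = 1 := fun g => MonoidHom.mem_ker
      have hNodd : Odd (Nat.card N) := by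
        have : Nat.card N = Nat.card Y := by
          show Nat.card ↥(SemidirectProduct.rightHom : Γ →* E).ker = _
          rw [← SemidirectProduct.range_inl_eq_ker_rightHom]
          exact Nat.card_congr (Equiv.ofInjective _ SemidirectProduct.inl_injective).symm
        rwa [this]
      let D : Four N :=
        { x := SemidirectProduct.inr ⟨φ u, hu'⟩
          y := SemidirectProduct.inr ⟨φ v, hv'⟩
          xx := by
            rw [← map_mul, show (⟨φ u, hu'⟩ * ⟨φ u, hu'⟩ : E) = 1 from Subtype.ext huu, map_one]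
          yy := by
            rw [← map_mul, show (⟨φ v, hv'⟩ * ⟨φ v, hv'⟩ : E) = 1 from Subtype.ext hvv, map_one]
          xy := by
            rw [← map_mul, ← map_mul]
            exact congrArg _ (Subtype.ext hcomm)
          xN := fun h => hu1 (congrArg Subtype.val ((hNmem _).1 h))
          yN := fun h => hv1 (congrArg Subtype.val ((hNmem _).1 h))
          zN := fun h => huv1 (by
            have := congrArg Subtype.val ((hNmem _).1 h)
            exact this)
          cover := fun g => by
            simp only [hNmem]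
            rcases hE4 _ g.right.2 with h | h | h | h
            · exact Or.inl (Subtype.ext h)
            · exact Or.inr (Or.inl (Subtype.ext (show φ u * (g.right : MulAut Y) = 1 by rw [h, huu])))
            · exact Or.inr (Or.inr (Or.inl (Subtype.ext (show φ v * (g.right : MulAut Y) = 1 by rw [h, hvv]))))
            · refine Or.inr (Or.inr (Or.inr (Subtype.ext ?_)))
              have : φ u * φ v * (φ u * φ v) = 1 := by
                calc φ u * φ v * (φ u * φ v) = φ u * (φ v * φ u) * φ v := by simp only [mul_assoc]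
                  _ = (φ u * φ u) * (φ v * φ v) := by rw [← hcomm]; simp only [mul_assoc]
                  _ = 1 := by rw [huu, hvv, one_mul]
              show φ u * φ v * (g.right : MulAut Y) = 1
              rw [h, this] }
      have hS : ∀ s ∈ D.S, ∃ b : B, ∃ hb : φ b ∈ E, s = SemidirectProduct.inr ⟨φ b, hb⟩ := by
        intro s hs
        have : D.S ≤ (SemidirectProduct.inr : E →* Γ).range := by
          rw [Four.S, Subgroup.closure_le]
          rintro _ (rfl | rfl)
          exacts [⟨⟨φ u, hu'⟩, rfl⟩, ⟨⟨φ v, hv'⟩, rfl⟩]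
        obtain ⟨e, rfl⟩ := this hs
        obtain ⟨b, hb⟩ := hErange e e.2
        exact ⟨b, hb ▸ e.2, congrArg _ (Subtype.ext hb.symm)⟩
      -- elements of `N` are their left components
      have hleft : ∀ m : Γ, m ∈ N → m = SemidirectProduct.inl m.left := fun m hm =>
        SemidirectProduct.ext (by rw [SemidirectProduct.left_inl]) (by rw [SemidirectProduct.right_inl]; exact (hNmem m).1 hm)
      have hlmul : ∀ m m' : Γ, m ∈ N → ((m * m').left : G) = (m.left : G) * (m'.left : G) := by
        intro m m' hm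
        rw [SemidirectProduct.mul_left, (hNmem m).1 hm]
        simp
      have hfix : ∀ (b : B) (hb : φ b ∈ E) (m : Γ), m ∈ N →
          m * SemidirectProduct.inr ⟨φ b, hb⟩ = SemidirectProduct.inr ⟨φ b, hb⟩ * m →
          (m.left : G) ∈ W b := by
        intro b hb m hm h
        have h2 : (((m * SemidirectProduct.inr ⟨φ b, hb⟩ : Γ).left : Y) : G) =
            (((SemidirectProduct.inr ⟨φ b, hb⟩ * m : Γ).left : Y) : G) := by rw [h]
        rw [SemidirectProduct.mul_left, SemidirectProduct.mul_left, SemidirectProduct.left_inr,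
          SemidirectProduct.right_inr, (hNmem m).1 hm, map_one, mul_one, one_mul] at h2
        have h3 : (m.left : G) = (b : G) * m.left * (b : G)⁻¹ := h2
        refine ⟨m.left.2, Subgroup.mem_centralizer_singleton_iff.2 ?_⟩
        nth_rw 1 [h3]
        group
      -- the homomorphisms
      have hπ : ∀ a : Γ, ∃ ψ : fixN N a →* ↥C ⧸ gSub A B Y, ∀ (b : B) (hb : φ b ∈ E),
          φ b ≠ 1 → a = SemidirectProduct.inr ⟨φ b, hb⟩ →
          ∀ m : fixN N a, ∀ q, Img A B Y (W b) ((m : Γ).left : G) q → ψ m = q := by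
        intro a
        by_cases ha : ∃ (b : B) (hb : φ b ∈ E), φ b ≠ 1 ∧ a = SemidirectProduct.inr ⟨φ b, hb⟩
        · obtain ⟨b, hb, hb1, rfl⟩ := ha
          have hex : ∀ m : fixN N (SemidirectProduct.inr ⟨φ b, hb⟩ : Γ),
              ∃ q, Img A B Y (W b) ((m : Γ).left : G) q := fun m =>
            Img.exists_of_mem hA hAc hB inf_le_left (hWodd b) (hWA b)
              (hfix b hb _ m.2.1 (Four.comm_fixN m))
          choose ψ hψ using hex
          refine ⟨MonoidHom.mk' ψ fun m m' => ?_, fun b' hb' hb'1 he m q hq => ?_⟩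
          · refine Img.unique (inf_le_left.trans inf_le_left) (hWA b) (hWD b hb1) (hψ _) ?_
            rw [Subgroup.coe_mul, hlmul _ _ m.2.1]
            exact (hψ m).mul (hψ m')
          · have e : φ b = φ b' := congrArg Subtype.val (SemidirectProduct.inr_injective he)
            have eW : W b' = W b := by
              ext w
              have key : ∀ (c : B) (y : Y), φ c y = y ↔ (y : G) ∈ W c := fun c y => by
                rw [Subtype.ext_iff, hφ]
                constructor
                · intro h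
                  exact ⟨y.2, Subgroup.mem_centralizer_singleton_iff.2
                    (mul_inv_eq_iff_eq_mul.1 h).symm⟩
                · intro h
                  rw [← Subgroup.mem_centralizer_singleton_iff.1 h.2]; group
              constructor <;> intro hw
              · have := (key b' ⟨w, hw.1⟩).2 hw
                rw [← e] at this
                exact (key b ⟨w, hw.1⟩).1 this
              · have := (key b ⟨w, hw.1⟩).2 hw
                rw [e] at this
                exact (key b' ⟨w, hw.1⟩).1 this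
            rw [eW] at hq
            exact Img.unique (inf_le_left.trans inf_le_left) (hWA b) (hWD b hb1) (hψ m) hq
        · exact ⟨1, fun b hb hb1 he => absurd ⟨b, hb, hb1, he⟩ ha⟩
      choose π hπspec using hπ
      -- the common fixed points
      set CE := Y ⊓ Subgroup.centralizer ({(u : G), (v : G)} : Set G) with hCE
      have hCEodd : Odd (Nat.card CE) := odd_of_le inf_le_left hodd
      have hCEu : CE ≤ W u := inf_le_inf_left _ (Subgroup.centralizer_le (by simp))
      have hCEA : A ≤ Subgroup.normalizer (CE : Set G) := by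
        have := le_normalizer_inf_centralizer (B := Subgroup.closure {(u : G), (v : G)}) hAY hAc
          (by rw [Subgroup.closure_le]; rintro _ (rfl | rfl); exacts [hB u.2, hB v.2])
        rwa [Subgroup.centralizer_closure] at this
      have hCED : Subgroup.centralizer (B : Set G) ⊓ ⁅CE, A⁆ ≤ gen A B Y :=
        (inf_le_inf_left _ (Subgroup.commutator_mono hCEu le_rfl)).trans (hWD u hu1)
      have hDC : ∀ m : D.C, ((m : Γ).left : G) ∈ CE := by
        intro m
        have h1 := hfix u hu' m m.2.1 (D.comm_C D.x_mem m).symm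
        have h2 := hfix v hv' m m.2.1 (D.comm_C D.y_mem m).symm
        refine ⟨h1.1, Subgroup.mem_centralizer_iff.2 ?_⟩
        rintro w (rfl | rfl)
        exacts [(Subgroup.mem_centralizer_singleton_iff.1 h1.2).symm,
          (Subgroup.mem_centralizer_singleton_iff.1 h2.2).symm]
      have hex0 : ∀ m : D.C, ∃ q, Img A B Y CE ((m : Γ).left : G) q := fun m =>
        Img.exists_of_mem hA hAc hB inf_le_left hCEodd hCEA (hDC m)
      choose ψ0 hψ0 using hex0
      let π0 : D.C →* ↥C ⧸ gSub A B Y := MonoidHom.mk' ψ0 fun m m' => by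
        refine Img.unique (inf_le_left.trans inf_le_left) hCEA hCED (hψ0 _) ?_
        rw [Subgroup.coe_mul, hlmul _ _ m.2.1]
        exact (hψ0 m).mul (hψ0 m')
      have hinlC : ∀ y : Y, (y : G) ∈ CE → (SemidirectProduct.inl y : Γ) ∈ D.C := by
        intro y hy
        refine ⟨(hNmem _).2 (SemidirectProduct.right_inl _), ?_⟩
        rw [Four.S, Subgroup.centralizer_closure]
        have hone : ∀ (b : B) (hb : φ b ∈ E), (b : G) * y = y * (b : G) →
            (SemidirectProduct.inr ⟨φ b, hb⟩ : Γ) * SemidirectProduct.inl y =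
              SemidirectProduct.inl y * SemidirectProduct.inr ⟨φ b, hb⟩ := fun b hb h => by
          refine SemidirectProduct.ext ?_ (by simp)
          simp only [SemidirectProduct.mul_left, SemidirectProduct.left_inr,
            SemidirectProduct.right_inr, SemidirectProduct.left_inl, SemidirectProduct.right_inl,
            map_one, mul_one, one_mul]
          refine Subtype.ext ?_
          show (b : G) * y * (b : G)⁻¹ = y
          rw [h]; group
        refine Subgroup.mem_centralizer_iff.2 ?_
        rintro _ (rfl | rfl)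
        exacts [hone u hu' (Subgroup.mem_centralizer_iff.1 hy.2 u (by simp)),
          hone v hv' (Subgroup.mem_centralizer_iff.1 hy.2 v (by simp))]
      have hsurj : Function.Surjective π0 := by
        intro q
        induction q using QuotientGroup.induction_on with
        | H c =>
          have hcCE : (c : G) ∈ CE :=
            ⟨c.2.1, Subgroup.centralizer_le (by rintro _ (rfl | rfl); exacts [u.2, v.2]) c.2.2⟩
          refine ⟨⟨_, hinlC ⟨c, c.2.1⟩ hcCE⟩,
            Img.unique (inf_le_left.trans inf_le_left) hCEA hCED (hψ0 _) ?_⟩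
          exact ⟨1, one_mem _, c, by simp, hcCE, rfl⟩
      have hres : ∀ a ∈ D.S, a ≠ 1 → ∀ (c : D.C) (m : fixN N a), (m : Γ) = c → π a m = π0 c := by
        intro a ha ha1 c m hmc
        obtain ⟨b, hb, rfl⟩ := hS a ha
        have hb1 : φ b ≠ 1 := fun h => ha1 (by
          rw [show (⟨φ b, hb⟩ : E) = 1 from Subtype.ext h, map_one])
        refine hπspec _ b hb hb1 rfl m _ ?_
        rw [hmc]
        have hCEW : CE ≤ W b := by
          intro w hw
          refine ⟨hw.1, Subgroup.mem_centralizer_singleton_iff.2 ?_⟩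
          have hm := (D.comm_C ha ⟨_, hinlC ⟨w, hw.1⟩ hw⟩).symm
          have := hfix b hb _ ((hNmem _).2 (SemidirectProduct.right_inl _)) hm
          simpa using Subgroup.mem_centralizer_singleton_iff.1 this.2
        exact (hψ0 c).mono hCEW
      have hinv : ∀ a ∈ D.S, a ≠ 1 → ∀ s ∈ D.S, ∀ g g' : fixN N a, (g' : Γ) = s * g * s⁻¹ →
          π a g' = π a g := by
        intro a ha ha1 s hs g g' hg
        obtain ⟨b, hb, rfl⟩ := hS a ha
        obtain ⟨b', hb', rfl⟩ := hS s hs
        have hb1 : φ b ≠ 1 := fun h => ha1 (by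
          rw [show (⟨φ b, hb⟩ : E) = 1 from Subtype.ext h, map_one])
        obtain ⟨q, hq⟩ := Img.exists_of_mem hA hAc hB inf_le_left (hWodd b) (hWA b)
          (hfix b hb _ g.2.1 (Four.comm_fixN g))
        rw [hπspec _ b hb hb1 rfl g q hq]
        refine hπspec _ b hb hb1 rfl g' q ?_
        have hleft' : ((g' : Γ).left : G) = (b' : G) * ((g : Γ).left : G) * (b' : G)⁻¹ := by
          rw [hg, hleft _ g.2.1, ← map_inv (SemidirectProduct.inr : E →* Γ),
            ← SemidirectProduct.inl_aut]
          rw [SemidirectProduct.left_inl, SemidirectProduct.left_inl]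
          rfl
        rw [hleft']
        obtain ⟨n, hn, c, hw, hcW, rfl⟩ := hq
        refine ⟨(b' : G) * n * (b' : G)⁻¹,
          (Subgroup.mem_normalizer_iff.1 (Subgroup.normalizer_commutator_ge_right (W b) A (hB b'.2)) n).1 hn,
          c, ?_, hcW, rfl⟩
        rw [hw]
        have h1 : (b' : G) * c = c * b' := Subgroup.mem_centralizer_iff.1 c.2.2 b' b'.2
        calc (b' : G) * (n * c) * (b' : G)⁻¹ = (b' : G) * n * (b' : G)⁻¹ * (((b' : G) * c) * (b' : G)⁻¹) := by
              group
          _ = _ := by rw [h1]; group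
      obtain ⟨χ, hχ, hχ1, hχC, hχK⟩ := exists_char D hNodd l π0 hsurj π hres hinv
      -- the kernel contains `[Y, A]`
      set K : Subgroup G := ((charKernel hχ).comap (SemidirectProduct.inl : Y →* Γ)).map Y.subtype
      have hKY : ∀ y ∈ Y, ∀ w ∈ K, y * w * y⁻¹ ∈ K := by
        rintro y hy _ ⟨w, hw, rfl⟩
        exact ⟨⟨y, hy⟩ * w * ⟨y, hy⟩⁻¹,
          ((charKernel_normal hχ).comap _).conj_mem w hw ⟨y, hy⟩, by simp⟩
      set U := Subgroup.closure {(u : G), (v : G)}
      have hUA : U ≤ A := by
        rw [Subgroup.closure_le]; rintro _ (rfl | rfl); exacts [hB u.2, hB v.2]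
      have hUY : U ≤ Subgroup.normalizer (Y : Set G) := hUA.trans hAY
      have hUK : ⁅Y, U⁆ ≤ K := by
        rw [Subgroup.commutator_le]
        intro y hy b hbU
        have hbB : b ∈ B := by
          refine (Subgroup.closure_le (K := B)).2 ?_ hbU
          rintro _ (rfl | rfl); exacts [u.2, v.2]
        have hbE : φ ⟨b, hbB⟩ ∈ E := by
          have hle : Subgroup.closure {u, v} ≤ E.comap φ := by
            rw [Subgroup.closure_le]; rintro _ (rfl | rfl); exacts [hu', hv']
          refine hle ?_
          have hm : (Subgroup.closure {u, v}).map B.subtype = U := by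
            rw [MonoidHom.map_closure, Set.image_pair]; rfl
          rw [← hm] at hbU
          obtain ⟨b0, hb0, rfl⟩ := hbU
          exact hb0
        have he : (SemidirectProduct.inr ⟨φ ⟨b, hbB⟩, hbE⟩ : Γ) ∈ D.S := by
          have hle : (⊤ : Subgroup E) ≤ D.S.comap (SemidirectProduct.inr : E →* Γ) := by
            intro e _
            show SemidirectProduct.inr e ∈ D.S
            rcases hE4 _ e.2 with h | h | h | h
            · rw [show e = 1 from Subtype.ext h, map_one]; exact one_mem _
            · rw [show e = ⟨φ u, hu'⟩ from Subtype.ext h]; exact D.x_mem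
            · rw [show e = ⟨φ v, hv'⟩ from Subtype.ext h]; exact D.y_mem
            · rw [show e = ⟨φ u, hu'⟩ * ⟨φ v, hv'⟩ from Subtype.ext h, map_mul]
              exact mul_mem D.x_mem D.y_mem
          exact hle (Subgroup.mem_top _)
        have h := hχK (SemidirectProduct.inl ⟨y, hy⟩) ((hNmem _).2 (SemidirectProduct.right_inl _)) _ he
        refine ⟨⟨y, hy⟩ * φ ⟨b, hbB⟩ (⟨y, hy⟩⁻¹), ?_, ?_⟩
        · show χ (SemidirectProduct.inl _) = χ 1
          rw [← h, ← map_inv (SemidirectProduct.inl : Y →* Γ), map_mul]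
          congr 1
          rw [show (⟨φ ⟨b, hbB⟩, hbE⟩ : E) = ⟨φ ⟨b, hbB⟩, hbE⟩ from rfl]
          conv_lhs => rw [show φ ⟨b, hbB⟩ = E.subtype ⟨φ ⟨b, hbB⟩, hbE⟩ from rfl,
            SemidirectProduct.inl_aut]
          simp only [mul_assoc, map_inv]
        · simp [commutatorElement_def, hφ, mul_assoc]
      have hK : ⁅Y, A⁆ ≤ K := by
        rw [Subgroup.commutator_le]
        intro y hy a ha
        have hy' := hy
        rw [← Coprime.commutator_sup_centralizer_eq hUY (odd_coprime (hA.to_le hUA) hodd)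
          (Or.inl (Coprime.isSolvable_of_le hUA hsolv))] at hy'
        obtain ⟨n, hn, c, hc, rfl⟩ := Coprime.exists_mul_of_mem_sup
          (inf_le_left.trans (Subgroup.normalizer_commutator_ge_left Y U)) hy'
        have hc' : c ∈ CE := ⟨hc.1, by
          have := hc.2
          rwa [Subgroup.centralizer_closure] at this⟩
        have hnY : n ∈ Y := Coprime.commutator_le_of_le_normalizer hUY hn
        have han : a * n⁻¹ * a⁻¹ ∈ K := by
          refine hUK ?_
          have hm : (⁅Y, U⁆ : Subgroup G).map (MulAut.conj a).toMonoidHom ≤ ⁅Y, U⁆ := by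
            rw [Subgroup.map_commutator]
            refine Subgroup.commutator_mono ?_ ?_
            · rintro _ ⟨w, hw, rfl⟩
              exact (Subgroup.mem_normalizer_iff.1 (hAY ha) w).1 hw
            · rintro _ ⟨w, hw, rfl⟩
              show a * w * a⁻¹ ∈ U
              rw [hAc a ha w (hUA hw), mul_inv_cancel_right]
              exact hw
          exact hm ⟨n⁻¹, inv_mem hn, rfl⟩
        have hcac : c * (a * c⁻¹ * a⁻¹) ∈ K := by
          have hmem : ⁅c, a⁆ ∈ ⁅CE, A⁆ := Subgroup.commutator_mem_commutator hc' ha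
          have hmemCE : ⁅c, a⁆ ∈ CE := Coprime.commutator_le_of_le_normalizer hCEA hmem
          refine ⟨⟨⁅c, a⁆, hmemCE.1⟩, ?_, by simp [commutatorElement_def, mul_assoc]⟩
          show χ (SemidirectProduct.inl _) = χ 1
          have e := hχC ⟨_, hinlC ⟨⁅c, a⁆, hmemCE.1⟩ hmemCE⟩
          have e1 : π0 ⟨_, hinlC ⟨⁅c, a⁆, hmemCE.1⟩ hmemCE⟩ = 1 :=
            Img.unique (inf_le_left.trans inf_le_left) hCEA hCED (hψ0 _)
              ⟨⁅c, a⁆, hmem, 1, by simp, one_mem _, rfl⟩
          rw [e, hχ1, e1]
        have e : ⁅n * c, a⁆ = (n * (c * (a * c⁻¹ * a⁻¹)) * n⁻¹) * (n * (a * n⁻¹ * a⁻¹)) := by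
          simp only [commutatorElement_def]; group
        rw [e]
        exact mul_mem (hKY n hnY _ hcac) (mul_mem (hUK hn) han)
      have hc₁K : c₁ ∈ K := hK (by rw [hYA]; exact hc₁.1)
      obtain ⟨w, hw, hwc⟩ := hc₁K
      have hw' : χ (SemidirectProduct.inl w) = χ 1 := hw
      have hcCE : c₁ ∈ CE :=
        ⟨hc₁.1, Subgroup.centralizer_le (by rintro _ (rfl | rfl); exacts [u.2, v.2]) hc₁.2⟩
      have hwCE : (w : G) ∈ CE := by
        have : (w : G) = c₁ := hwc
        rw [this]; exact hcCE
      have e := hχC ⟨_, hinlC w hwCE⟩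
      have e' : π0 ⟨_, hinlC w hwCE⟩ = q₁ :=
        Img.unique (inf_le_left.trans inf_le_left) hCEA hCED (hψ0 _)
          ⟨1, one_mem _, ⟨c₁, hc₁⟩, by simpa using hwc, hcCE, rfl⟩
      rw [hw', hχ1, e'] at e
      exact hl e.symm

end Cfsg.Agent.Lib.CoprimeGen
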